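-- Brauer's permutation lemma via column orthogonality and class counting; conjugate characters.
import Mathlib
import Cfsg.Prelude.Def_Characters
import Cfsg.Agent.Lib.Helper3.CharCore
import Cfsg.Agent.Lib.Helper3.CharOrtho
import Cfsg.Agent.Lib.Helper3.CharValues
import Cfsg.Agent.Lib.Helper16.ClassSum

set_option autoImplicit false
open scoped ComplexConjugate

namespace Cfsg.Agent.Lib.Helper74

open Cfsg.Agent.Lib.Helper3

section ClassCount

variable {G : Type*} [Group G] [Fintype G] [DecidableEq G]

/-- Conjugate elements have centralizers of the same order. -/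
lemma card_centralizer_eq_of_isConj {g h : G} (hc : IsConj g h) :
    Nat.card (Subgroup.centralizer ({g} : Set G)) =
      Nat.card (Subgroup.centralizer ({h} : Set G)) := by
  have h1 := Cfsg.Agent.Lib.Helper16.card_isConj g
  have h2 := Cfsg.Agent.Lib.Helper16.card_isConj h
  have hset : (Finset.univ.filter (fun y : G => IsConj g y)) =
      (Finset.univ.filter (fun y : G => IsConj h y)) := by
    ext y
    simp only [Finset.mem_filter, Finset.mem_univ, true_and]
    exact ⟨fun hy => hc.symm.trans hy, fun hy => hc.trans hy⟩
  rw [hset, h2] at h1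
  have h3 := Subgroup.card_mul_index (Subgroup.centralizer ({g} : Set G))
  have h4 := Subgroup.card_mul_index (Subgroup.centralizer ({h} : Set G))
  have hpos : 0 < (Subgroup.centralizer ({g} : Set G)).index :=
    Nat.pos_of_ne_zero Subgroup.index_ne_zero_of_finite
  rw [h1] at h4
  rw [← h3] at h4
  exact (Nat.eq_of_mul_eq_mul_right hpos h4).symm

/-- The centralizer orders of the elements of one conjugacy class sum to the group order. -/
lemma sum_fiber_card_centralizer (C : ConjClasses G) :
    ∑ g ∈ Finset.univ.filter (fun g : G => ConjClasses.mk g = C),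
      Nat.card (Subgroup.centralizer ({g} : Set G)) = Nat.card G := by
  obtain ⟨g₀, rfl⟩ := ConjClasses.mk_surjective C
  have hfilter : Finset.univ.filter (fun g : G => ConjClasses.mk g = ConjClasses.mk g₀) =
      Finset.univ.filter (fun y : G => IsConj g₀ y) := by
    ext y
    simp only [Finset.mem_filter, Finset.mem_univ, true_and]
    rw [ConjClasses.mk_eq_mk_iff_isConj]
    exact ⟨fun h => h.symm, fun h => h.symm⟩
  rw [hfilter]
  have hconst : ∀ g ∈ Finset.univ.filter (fun y : G => IsConj g₀ y),
      Nat.card (Subgroup.centralizer ({g} : Set G)) =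
        Nat.card (Subgroup.centralizer ({g₀} : Set G)) := by
    intro g hg
    rw [Finset.mem_filter] at hg
    exact (card_centralizer_eq_of_isConj hg.2).symm
  rw [Finset.sum_congr rfl hconst, Finset.sum_const, smul_eq_mul,
    Cfsg.Agent.Lib.Helper16.card_isConj, mul_comm, Subgroup.card_mul_index]

/-- **Class counting**: summing the centralizer orders over the elements whose class satisfies
`P` gives the group order times the number of such classes. -/
lemma sum_class_pred (P : ConjClasses G → Prop) [DecidablePred P] :
    ∑ g : G, (if P (ConjClasses.mk g) then Nat.card (Subgroup.centralizer ({g} : Set G)) else 0)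
      = Nat.card G * Nat.card {C : ConjClasses G // P C} := by
  classical
  have : Fintype (ConjClasses G) := Fintype.ofFinite _
  rw [← Finset.sum_fiberwise Finset.univ (fun g : G => ConjClasses.mk g)]
  have hinner : ∀ C : ConjClasses G,
      ∑ g ∈ Finset.univ.filter (fun g : G => ConjClasses.mk g = C),
        (if P (ConjClasses.mk g) then Nat.card (Subgroup.centralizer ({g} : Set G)) else 0)
      = if P C then Nat.card G else 0 := by
    intro C
    by_cases hC : P C
    · rw [if_pos hC, ← sum_fiber_card_centralizer C]
      refine Finset.sum_congr rfl fun g hg => ?_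
      rw [Finset.mem_filter] at hg
      rw [hg.2, if_pos hC]
    · rw [if_neg hC]
      refine Finset.sum_eq_zero fun g hg => ?_
      rw [Finset.mem_filter] at hg
      rw [hg.2, if_neg hC]
  rw [Finset.sum_congr rfl (fun C _ => hinner C), Finset.sum_ite, Finset.sum_const_zero, add_zero,
    Finset.sum_const, smul_eq_mul, mul_comm, Nat.card_eq_fintype_card (α := {C // P C}),
    Fintype.card_subtype]

end ClassCount

section Perm

variable {G : Type*} [Group G] [Fintype G]

/-- **Brauer's permutation lemma**, counting form: if a self-map `σ` of the irreducible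
characters is given by composing with a self-map `φ` of the group, then `σ` fixes as many
irreducible characters as there are classes fixed by `φ`. -/
theorem brauer_perm_count (σ : Cfsg.IrrCharacter G → Cfsg.IrrCharacter G) (φ : G → G)
    (hσ : ∀ (χ : Cfsg.IrrCharacter G) (g : G), (σ χ : G → ℂ) g = (χ : G → ℂ) (φ g))
    (P : ConjClasses G → Prop) (hP : ∀ g : G, P (ConjClasses.mk g) ↔ IsConj (φ g) g) :
    Nat.card {χ : Cfsg.IrrCharacter G // σ χ = χ} = Nat.card {C : ConjClasses G // P C} := by
  classical
  have : Fintype (Cfsg.IrrCharacter G) := Fintype.ofFinite _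
  have hpair : ∀ χ : Cfsg.IrrCharacter G,
      pair (σ χ : G → ℂ) (χ : G → ℂ) = if σ χ = χ then 1 else 0 := by
    intro χ
    by_cases h : σ χ = χ
    · rw [if_pos h, h]; exact pair_irr_self χ.2
    · rw [if_neg h]
      exact pair_irr_ne (σ χ).2 χ.2 (fun h' => h (Subtype.ext h'))
  have h1 : ((Nat.card {χ : Cfsg.IrrCharacter G // σ χ = χ} : ℕ) : ℂ) =
      ∑ χ : Cfsg.IrrCharacter G, pair (σ χ : G → ℂ) (χ : G → ℂ) := by
    rw [Finset.sum_congr rfl (fun χ _ => hpair χ), Finset.sum_ite, Finset.sum_const_zero,
      add_zero, Finset.sum_const, nsmul_eq_mul, mul_one, Nat.card_eq_fintype_card,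
      Fintype.card_subtype]
  have h2 : ∑ χ : Cfsg.IrrCharacter G, pair (σ χ : G → ℂ) (χ : G → ℂ) =
      (Nat.card G : ℂ)⁻¹ * ∑ g : G,
        (if IsConj (φ g) g then (Nat.card (Subgroup.centralizer ({φ g} : Set G)) : ℂ) else 0) := by
    unfold pair
    rw [← Finset.mul_sum, Finset.sum_comm]
    congr 1
    refine Finset.sum_congr rfl fun g _ => ?_
    rw [← second_orthogonality (φ g) g]
    refine Finset.sum_congr rfl fun χ _ => ?_
    rw [hσ, isCharacter_inv (isCharacter_of_irr χ.2)]
  have h3 : ∑ g : G,
      (if IsConj (φ g) g then (Nat.card (Subgroup.centralizer ({φ g} : Set G)) : ℂ) else 0) =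
      ((∑ g : G, (if P (ConjClasses.mk g) then
        Nat.card (Subgroup.centralizer ({g} : Set G)) else 0) : ℕ) : ℂ) := by
    push_cast
    refine Finset.sum_congr rfl fun g _ => ?_
    by_cases hc : IsConj (φ g) g
    · rw [if_pos hc, if_pos ((hP g).2 hc), card_centralizer_eq_of_isConj hc]
    · rw [if_neg hc, if_neg (fun h => hc ((hP g).1 h))]
  rw [h2, h3, sum_class_pred, Nat.cast_mul, ← mul_assoc, inv_mul_cancel₀ card_ne_zero',
    one_mul] at h1
  exact_mod_cast h1

end Perm

end Cfsg.Agent.Lib.Helper74
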