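-- Operations preserving irreducible characters: complex conjugation, automorphisms.
import Mathlib
import Cfsg.Prelude.Def_Characters

set_option autoImplicit false
open scoped ComplexConjugate

namespace Cfsg.Agent.Lib.Helper74

variable {G : Type*} [Group G]

section Conj

/-- Entrywise conjugation of a coordinate vector. -/
noncomputable def vconj {n : ℕ} (v : Fin n → ℂ) : Fin n → ℂ := fun i => conj (v i)

lemma vconj_vconj {n : ℕ} (v : Fin n → ℂ) : vconj (vconj v) = v := by
  funext i; simp [vconj]

lemma vconj_add {n : ℕ} (v w : Fin n → ℂ) : vconj (v + w) = vconj v + vconj w := by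
  funext i; simp [vconj]

lemma vconj_smul {n : ℕ} (c : ℂ) (v : Fin n → ℂ) : vconj (c • v) = conj c • vconj v := by
  funext i; simp [vconj]

lemma vconj_zero {n : ℕ} : vconj (0 : Fin n → ℂ) = 0 := by
  funext i; simp [vconj]

lemma vconj_single {n : ℕ} (j : Fin n) : vconj (Pi.single j (1 : ℂ)) = Pi.single j (1 : ℂ) := by
  funext i
  by_cases h : i = j
  · subst h; simp [vconj]
  · simp [vconj, Pi.single_eq_of_ne h]

/-- The complex conjugate of a representation on a coordinate space. -/
noncomputable def conjRep {n : ℕ} (ρ : Representation ℂ G (Fin n → ℂ)) :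
    Representation ℂ G (Fin n → ℂ) where
  toFun g :=
    { toFun := fun v => vconj (ρ g (vconj v))
      map_add' := fun v w => by rw [vconj_add, map_add, vconj_add]
      map_smul' := fun c v => by
        rw [vconj_smul, map_smul, vconj_smul]
        simp }
  map_one' := by
    refine LinearMap.ext fun v => ?_
    change vconj (ρ 1 (vconj v)) = v
    rw [map_one, Module.End.one_apply, vconj_vconj]
  map_mul' g h := by
    refine LinearMap.ext fun v => ?_
    change vconj (ρ (g * h) (vconj v)) = vconj (ρ g (vconj (vconj (ρ h (vconj v)))))
    rw [map_mul, vconj_vconj, Module.End.mul_apply]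

lemma conjRep_apply {n : ℕ} (ρ : Representation ℂ G (Fin n → ℂ)) (g : G) (v : Fin n → ℂ) :
    conjRep ρ g v = vconj (ρ g (vconj v)) := rfl

lemma conjRep_character {n : ℕ} (ρ : Representation ℂ G (Fin n → ℂ)) (g : G) :
    (conjRep ρ).character g = conj (ρ.character g) := by
  unfold Representation.character
  rw [LinearMap.trace_eq_matrix_trace ℂ (Pi.basisFun ℂ (Fin n)),
    LinearMap.trace_eq_matrix_trace ℂ (Pi.basisFun ℂ (Fin n)),
    LinearMap.toMatrix_eq_toMatrix', Matrix.trace, Matrix.trace, map_sum]
  refine Finset.sum_congr rfl fun i _ => ?_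
  rw [Matrix.diag_apply, Matrix.diag_apply, LinearMap.toMatrix'_apply, LinearMap.toMatrix'_apply,
    conjRep_apply]
  rw [vconj_single]
  rfl

lemma conjRep_isIrreducible {n : ℕ} (ρ : Representation ℂ G (Fin n → ℂ))
    (hirr : ρ.IsIrreducible) : (conjRep ρ).IsIrreducible := by
  have hnt : Nontrivial (Fin n → ℂ) := by
    by_contra hnt
    rw [not_nontrivial_iff_subsingleton] at hnt
    have h1 : (⊥ : Subrepresentation ρ) = ⊤ := by
      apply Subrepresentation.toSubmodule_injective
      exact Subsingleton.elim _ _
    exact bot_ne_top h1
  refine { exists_pair_ne := ⟨⊥, ⊤, ?_⟩, eq_bot_or_eq_top := ?_ }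
  · intro h
    have h1 := congrArg Subrepresentation.toSubmodule h
    have h2 : (⊥ : Submodule ℂ (Fin n → ℂ)) = ⊤ := h1
    exact bot_ne_top h2
  · intro W'
    -- transport `W'` to a subrepresentation of `ρ`
    let W : Subrepresentation ρ :=
      { toSubmodule :=
          { carrier := {v | vconj v ∈ W'.toSubmodule}
            add_mem' := by
              intro a b ha hb
              change vconj (a + b) ∈ W'.toSubmodule
              rw [vconj_add]
              exact W'.toSubmodule.add_mem ha hb
            zero_mem' := by
              change vconj 0 ∈ W'.toSubmodule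
              rw [vconj_zero]
              exact W'.toSubmodule.zero_mem
            smul_mem' := by
              intro c a ha
              change vconj (c • a) ∈ W'.toSubmodule
              rw [vconj_smul]
              exact W'.toSubmodule.smul_mem _ ha }
        apply_mem_toSubmodule := by
          intro g v hv
          change vconj (ρ g v) ∈ W'.toSubmodule
          have h1 := W'.apply_mem_toSubmodule g hv
          rw [conjRep_apply, vconj_vconj] at h1
          exact h1 }
    have hW : ∀ v, v ∈ W.toSubmodule ↔ vconj v ∈ W'.toSubmodule := fun v => Iff.rfl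
    rcases eq_bot_or_eq_top W with h | h
    · left
      apply Subrepresentation.toSubmodule_injective
      change W'.toSubmodule = ⊥
      rw [eq_bot_iff]
      intro v hv
      have h1 : vconj v ∈ W.toSubmodule := by
        rw [hW, vconj_vconj]; exact hv
      rw [h] at h1
      have h2 : vconj v = 0 := (Submodule.mem_bot ℂ).1 h1
      have h3 : v = 0 := by
        rw [← vconj_vconj v, h2, vconj_zero]
      rw [h3]
      exact Submodule.zero_mem _
    · right
      apply Subrepresentation.toSubmodule_injective
      change W'.toSubmodule = ⊤
      rw [eq_top_iff]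
      intro v _
      have h1 : vconj v ∈ W.toSubmodule := by
        rw [h]; exact Submodule.mem_top
      rw [hW, vconj_vconj] at h1
      exact h1

/-- The complex conjugate of an irreducible character is an irreducible character. -/
theorem isIrrCharacter_conj {χ : G → ℂ} (hχ : Cfsg.IsIrrCharacter G χ) :
    Cfsg.IsIrrCharacter G (fun g => conj (χ g)) := by
  obtain ⟨n, ρ, hirr, rfl⟩ := hχ
  exact ⟨n, conjRep ρ, conjRep_isIrreducible ρ hirr, funext fun g => conjRep_character ρ g⟩

/-- The complex conjugate of a character is a character. -/
theorem isCharacter_conj {χ : G → ℂ} (hχ : Cfsg.IsCharacter G χ) :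
    Cfsg.IsCharacter G (fun g => conj (χ g)) := by
  obtain ⟨n, ρ, rfl⟩ := hχ
  exact ⟨n, conjRep ρ, funext fun g => conjRep_character ρ g⟩

end Conj

section Aut

/-- Composing an irreducible representation with a surjective endomorphism of the group keeps
it irreducible. -/
lemma comp_isIrreducible {V : Type*} [AddCommGroup V] [Module ℂ V] (ρ : Representation ℂ G V)
    (hirr : ρ.IsIrreducible) (α : G →* G) (hα : Function.Surjective α) :
    Representation.IsIrreducible (ρ.comp α : Representation ℂ G V) := by
  refine { exists_pair_ne := ⟨⊥, ⊤, ?_⟩, eq_bot_or_eq_top := ?_ }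
  · intro h
    have h1 : (⊥ : Submodule ℂ V) = ⊤ := congrArg Subrepresentation.toSubmodule h
    have h2 : (⊥ : Subrepresentation ρ) = ⊤ := by
      apply Subrepresentation.toSubmodule_injective
      exact h1
    exact bot_ne_top h2
  · intro W'
    let W : Subrepresentation ρ :=
      { toSubmodule := W'.toSubmodule
        apply_mem_toSubmodule := by
          intro g v hv
          obtain ⟨g', rfl⟩ := hα g
          exact W'.apply_mem_toSubmodule g' hv }
    rcases eq_bot_or_eq_top W with h | h
    · left
      apply Subrepresentation.toSubmodule_injective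
      have h1 : W.toSubmodule = ⊥ := congrArg Subrepresentation.toSubmodule h
      exact h1
    · right
      apply Subrepresentation.toSubmodule_injective
      have h1 : W.toSubmodule = ⊤ := congrArg Subrepresentation.toSubmodule h
      exact h1

/-- Composing an irreducible character with an automorphism gives an irreducible character. -/
theorem isIrrCharacter_comp_mulEquiv {χ : G → ℂ} (hχ : Cfsg.IsIrrCharacter G χ) (α : G ≃* G) :
    Cfsg.IsIrrCharacter G (χ ∘ α) := by
  obtain ⟨n, ρ, hirr, rfl⟩ := hχ
  exact ⟨n, ρ.comp α.toMonoidHom, comp_isIrreducible ρ hirr α.toMonoidHom α.surjective, rfl⟩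

end Aut

end Cfsg.Agent.Lib.Helper74
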