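import Mathlib

/-!
# Weighted fixed point congruence for `p`-groups

If a `p`-group acts on a finite set and `f` is an invariant weight with values in `ℕ`, then the
sum of `f` over the whole set is congruent mod `p` to the sum over the fixed points.
-/

set_option autoImplicit false

namespace Cfsg.Agent.Lib.Helper74

/-- Weighted version of the fixed point congruence for `p`-groups. -/
theorem sum_modEq_sum_fixed {P X : Type*} [Group P] [MulAction P X] [Fintype X]
    (p : ℕ) [Fact p.Prime] (hP : IsPGroup p P) (f : X → ℕ)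
    (hf : ∀ (g : P) (x : X), f (g • x) = f x)
    (s : Finset X) (hs : ∀ x, x ∈ s ↔ ∀ g : P, g • x = x) :
    ∑ x, f x ≡ ∑ x ∈ s, f x [MOD p] := by
  classical
  let Y := {y : X × ℕ // y.2 < f y.1}
  letI : MulAction P Y :=
    { smul := fun g y => ⟨(g • y.1.1, y.1.2), by rw [hf]; exact y.2⟩
      one_smul := fun y => Subtype.ext (Prod.ext (one_smul _ _) rfl)
      mul_smul := fun g h y => Subtype.ext (Prod.ext (mul_smul _ _ _) rfl) }
  have hsmul : ∀ (g : P) (y : Y), ((g • y : Y) : X × ℕ) = (g • y.1.1, y.1.2) := fun _ _ => rfl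
  let e : Y ≃ Σ x : X, Fin (f x) :=
    { toFun := fun y => ⟨y.1.1, ⟨y.1.2, y.2⟩⟩
      invFun := fun z => ⟨(z.1, z.2.1), z.2.2⟩
      left_inv := fun y => rfl
      right_inv := fun z => rfl }
  haveI : Finite Y := Finite.of_equiv _ e.symm
  have h1 := hP.card_modEq_card_fixedPoints Y
  have hY : Nat.card Y = ∑ x, f x := by
    rw [Nat.card_congr e, Nat.card_eq_fintype_card, Fintype.card_sigma]
    simp
  let e2 : MulAction.fixedPoints P Y ≃ Σ x : {x // x ∈ s}, Fin (f x) :=
    { toFun := fun y => ⟨⟨y.1.1.1, (hs _).2 (fun g => by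
          have h := congrArg (fun z : Y => z.1.1) (y.2 g)
          simpa [hsmul] using h)⟩, ⟨y.1.1.2, y.1.2⟩⟩
      invFun := fun z => ⟨⟨(z.1.1, z.2.1), z.2.2⟩, fun g =>
          Subtype.ext (Prod.ext ((hs _).1 z.1.2 g) rfl)⟩
      left_inv := fun y => rfl
      right_inv := fun z => rfl }
  have hF : Nat.card (MulAction.fixedPoints P Y) = ∑ x ∈ s, f x := by
    rw [Nat.card_congr e2, Nat.card_eq_fintype_card, Fintype.card_sigma]
    simp only [Fintype.card_fin]
    exact Finset.sum_coe_sort s f
  rw [hY, hF] at h1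
  exact h1

end Cfsg.Agent.Lib.Helper74
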