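import Mathlib
import Cfsg.Prelude.Def_Characters
import Cfsg.Agent.Lib.Helper3.Taketa
import Cfsg.Agent.Lib.Helper80.ItoConverse
import Cfsg.Agent.Lib.Helper82.CliffordInd
import Cfsg.Agent.Lib.Helper75.CentExt7
import Cfsg.Agent.Lib.Helper81.MinNormal
import Cfsg.Agent.Lib.Helper79.Linear
import Cfsg.Agent.Lib.Helper79.ClassMult
import Cfsg.Agent.Lib.Helper1.CoprimeAbelian
import Cfsg.Agent.Lib.Helper74.CharSums
import Cfsg.Agent.S0136
import Cfsg.Agent.S4456

set_option autoImplicit false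
set_option linter.unusedSectionVars false
set_option linter.style.haveILetI false

/-!
# Groups with two character degrees (Isaacs, Theorem 12.5 and Corollary 12.6)
-/

namespace Cfsg.Agent.Lib.Helper74

open scoped ComplexConjugate
open scoped commutatorElement

universe u

section TwoDeg

variable {G : Type u} [Group G] [Fintype G]

/-- If the irreducible character degrees of `G` are `1` and `m ≠ 1`, every subgroup of index `m`
contains the commutator subgroup (the permutation character has only linear constituents). -/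
theorem commutator_le_of_index (m : ℕ) (hm1 : m ≠ 1)
    (hcd : ∀ χ : Cfsg.IrrCharacter G, Cfsg.charDegree (χ : G → ℂ) = 1 ∨
      Cfsg.charDegree (χ : G → ℂ) = m)
    (T : Subgroup G) (hT : T.index = m) : commutator G ≤ T := by
  classical
  have := Fintype.ofFinite (Cfsg.IrrCharacter G)
  intro x hx
  apply Cfsg.Agent.Lib.Helper3.mem_of_indFun_one_eq T
  have hI : Cfsg.IsCharacter G (Cfsg.indFun T (fun _ => (1 : ℂ))) :=
    Cfsg.Agent.Lib.Helper75.isCharacter_indFun T
      (Cfsg.Agent.Lib.Helper3.isCharacter_of_irr Cfsg.Agent.Lib.Helper3.isIrrCharacter_one)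
  obtain ⟨mu, hmu⟩ := Cfsg.Agent.Lib.Helper3.exists_mult_of_isCharacter hI
  let one : Cfsg.IrrCharacter G := ⟨fun _ => 1, Cfsg.Agent.Lib.Helper3.isIrrCharacter_one⟩
  have hdeg : ∀ ψ : Cfsg.IrrCharacter G,
      (ψ : G → ℂ) 1 = (Cfsg.charDegree (ψ : G → ℂ) : ℂ) := fun ψ => (irr_charDegree ψ).2
  have hdeg1 : Cfsg.charDegree (one : G → ℂ) = 1 := by
    have h := hdeg one
    have h' : (1 : ℂ) = (Cfsg.charDegree (one : G → ℂ) : ℂ) := h
    exact_mod_cast h'.symm
  have hmu1 : mu one = 1 := by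
    have h1 := Cfsg.Agent.Lib.Helper3.pair_sum_irr (fun ψ => (mu ψ : ℂ)) one
    rw [← hmu, ← Cfsg.Agent.Lib.Helper3.classInner_eq_pair _
        (Cfsg.Agent.Lib.Helper3.isCharacter_of_irr one.2),
      Cfsg.Agent.Lib.Helper3.frobenius_reciprocity T _ _
        (Cfsg.Agent.Lib.Helper3.isClassFunction_of_isCharacter
          (Cfsg.Agent.Lib.Helper3.isCharacter_of_irr one.2))] at h1
    have h2 : Cfsg.classInner (fun _ : T => (1 : ℂ)) (fun h : T => (one : G → ℂ) h) = 1 :=
      Cfsg.Agent.Lib.Helper3.classInner_irr_self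
        (Cfsg.Agent.Lib.Helper3.isIrrCharacter_one (G := T))
    rw [h2] at h1
    exact_mod_cast h1.symm
  have hsum : m = ∑ ψ : Cfsg.IrrCharacter G, mu ψ * Cfsg.charDegree (ψ : G → ℂ) := by
    have h1 := congrFun hmu 1
    rw [Cfsg.Agent.Lib.Helper75.indFun_one, hT] at h1
    simp only [mul_one, Finset.sum_apply, Pi.smul_apply, smul_eq_mul, hdeg] at h1
    exact_mod_cast h1
  have hcons : ∀ ψ : Cfsg.IrrCharacter G, mu ψ ≠ 0 → Cfsg.charDegree (ψ : G → ℂ) = 1 := by
    intro ψ hψ
    rcases hcd ψ with h | h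
    · exact h
    · exfalso
      have hne : ψ ≠ one := by
        intro h1
        rw [h1, hdeg1] at h
        exact hm1 h.symm
      have h2 : mu ψ * Cfsg.charDegree (ψ : G → ℂ) + mu one * Cfsg.charDegree (one : G → ℂ) ≤
          ∑ ψ : Cfsg.IrrCharacter G, mu ψ * Cfsg.charDegree (ψ : G → ℂ) := by
        rw [← Finset.add_sum_erase Finset.univ _ (Finset.mem_univ ψ)]
        apply Nat.add_le_add_left
        exact Finset.single_le_sum
          (f := fun ψ : Cfsg.IrrCharacter G => mu ψ * Cfsg.charDegree (ψ : G → ℂ))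
          (fun _ _ => Nat.zero_le _)
          (Finset.mem_erase.mpr ⟨Ne.symm hne, Finset.mem_univ _⟩)
      rw [← hsum, hmu1, hdeg1, h] at h2
      have h3 : m ≤ mu ψ * m := Nat.le_mul_of_pos_left _ (Nat.pos_of_ne_zero hψ)
      omega
  rw [hmu]
  simp only [Finset.sum_apply, Pi.smul_apply, smul_eq_mul]
  refine Finset.sum_congr rfl (fun ψ _ => ?_)
  by_cases hψ : mu ψ = 0
  · rw [hψ]; simp
  · have h1 : (ψ : G → ℂ) 1 = 1 := by rw [hdeg, hcons ψ hψ]; simp
    rw [Cfsg.Agent.Lib.Helper79.linear_irr_commutator ψ.2 h1 hx, h1]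

/-- A normal subgroup of order prime to `m` is abelian when all character degrees of `G` are
`1` or `m`. -/
theorem comm_of_coprime_normal (m : ℕ)
    (hcd : ∀ χ : Cfsg.IrrCharacter G, Cfsg.charDegree (χ : G → ℂ) = 1 ∨
      Cfsg.charDegree (χ : G → ℂ) = m)
    (H : Subgroup G) [hH : H.Normal] (hcop : Nat.Coprime (Nat.card H) m) :
    ∀ a ∈ H, ∀ b ∈ H, a * b = b * a := by
  classical
  haveI : Fintype H := Fintype.ofFinite H
  have hlin : ∀ θ : Cfsg.IrrCharacter H, Cfsg.charDegree (θ : H → ℂ) = 1 := by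
    intro θ
    obtain ⟨χ, hχ, h⟩ := Cfsg.Agent.Lib.Helper80.exists_irr_over H θ.2
    obtain ⟨e, he⟩ := Cfsg.Agent.Lib.Helper80.charDegree_eq_mul_index_inertia H hχ θ.2 h
    have h1 : Cfsg.charDegree (θ : H → ℂ) ∣ Cfsg.charDegree χ := by
      rw [he]; exact Dvd.intro_left _ rfl
    have h2 : Cfsg.charDegree (θ : H → ℂ) ∣ Nat.card H :=
      Cfsg.Agent.Lib.Helper80.charDegree_dvd_card θ.2
    rcases hcd ⟨χ, hχ⟩ with h3 | h3
    · rw [show Cfsg.charDegree χ = 1 from h3] at h1
      exact Nat.dvd_one.mp h1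
    · rw [show Cfsg.charDegree χ = m from h3] at h1
      exact Nat.eq_one_of_dvd_coprimes hcop h2 h1
  have hc := Cfsg.Agent.Lib.Helper80.isMulCommutative_of_forall_charDegree_eq_one hlin
  intro a ha b hb
  have h := hc.is_comm.comm (⟨a, ha⟩ : H) ⟨b, hb⟩
  exact congrArg Subtype.val h

/-- the complex-valued function of a linear character -/
def linFun {H : Type u} [Group H] (lam : H →* ℂˣ) : H → ℂ := fun h => ((lam h : ℂˣ) : ℂ)

theorem linFun_apply {H : Type u} [Group H] (lam : H →* ℂˣ) (h : H) :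
    linFun lam h = ((lam h : ℂˣ) : ℂ) := rfl

/-- membership in the inertia group of a linear character, pointwise -/
theorem mem_inertia_linFun (H : Subgroup G) [hH : H.Normal] (lam : H →* ℂˣ) (g : G) :
    g ∈ Cfsg.Agent.Lib.Helper75.inertia H (linFun lam) ↔
      ∀ h : H, lam ⟨g * h * g⁻¹, hH.conj_mem h h.2 g⟩ = lam h := by
  rw [Cfsg.Agent.Lib.Helper75.mem_inertia_iff']
  constructor
  · intro h n
    exact Units.ext (h n)
  · intro h n
    show ((lam _ : ℂˣ) : ℂ) = ((lam n : ℂˣ) : ℂ)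
    rw [h n]

theorem le_inertia_linFun (H : Subgroup G) [hH : H.Normal] (lam : H →* ℂˣ) :
    H ≤ Cfsg.Agent.Lib.Helper75.inertia H (linFun lam) :=
  Cfsg.Agent.Lib.Helper75.le_inertia H
    (Cfsg.Agent.Lib.Helper3.isClassFunction_of_isCharacter
      (Cfsg.Agent.Lib.Helper15.isCharacter_of_hom lam))

/-- Let `H` be a normal Hall subgroup, `lam` a linear character of `H` with inertia group `T`,
and `β` an irreducible character of `T` with `H` in its kernel.  Then `|G : T| β(1)` is the degree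
of an irreducible character of `G`. -/
theorem inertia_degree (m : ℕ)
    (hcd : ∀ χ : Cfsg.IrrCharacter G, Cfsg.charDegree (χ : G → ℂ) = 1 ∨
      Cfsg.charDegree (χ : G → ℂ) = m)
    (H : Subgroup G) [hH : H.Normal] (hcop : Nat.Coprime (Nat.card H) H.index) (lam : H →* ℂˣ)
    (T : Subgroup G) (hT : T = Cfsg.Agent.Lib.Helper75.inertia H (linFun lam)) (hHT : H ≤ T)
    {β : T → ℂ} (hβ : Cfsg.IsIrrCharacter T β) (hβH : ∀ n : H, β ⟨n, hHT n.2⟩ = β 1) :
    T.index * Cfsg.charDegree β = 1 ∨ T.index * Cfsg.charDegree β = m := by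
  classical
  haveI : Fintype H := Fintype.ofFinite H
  haveI : Fintype T := Fintype.ofFinite T
  have hθ : Cfsg.IsIrrCharacter H (linFun lam) := Cfsg.Agent.Lib.Helper80.isIrrCharacter_of_hom lam
  haveI hsubn : (H.subgroupOf T).Normal := inferInstance
  let lam' : H.subgroupOf T →* ℂˣ := lam.comp (Subgroup.subgroupOfEquivOfLe hHT).toMonoidHom
  have hinv : ∀ (t : T) (n : H.subgroupOf T), lam' (MulAut.conjNormal t n) = lam' n := by
    intro t n
    have ht := (mem_inertia_linFun H lam t).mp (hT ▸ t.2)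
    have h1 := ht (Subgroup.subgroupOfEquivOfLe hHT n)
    show lam (Subgroup.subgroupOfEquivOfLe hHT (MulAut.conjNormal t n)) =
      lam (Subgroup.subgroupOfEquivOfLe hHT n)
    rw [← h1]
    congr 1
  have he : ∀ n : H.subgroupOf T, lam' n ^ Nat.card H = 1 := fun n => by
    show lam _ ^ Nat.card H = 1
    rw [← map_pow, pow_card_eq_one', map_one]
  have hcop' : Nat.Coprime (H.subgroupOf T).index (Nat.card H) := by
    have h1 : (H.subgroupOf T).index ∣ H.index := Subgroup.relIndex_dvd_index_of_le hHT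
    exact Nat.Coprime.coprime_dvd_left h1 hcop.symm
  obtain ⟨μ, hμ, -⟩ := Cfsg.Agent.Lib.Helper75.exists_lin_extension_of_coprime (H.subgroupOf T)
    lam' hinv (Nat.card H) he hcop'
  have hμH : ∀ n : H, μ ⟨n, hHT n.2⟩ = lam n := by
    intro n
    have h1 := hμ ⟨⟨n, hHT n.2⟩, Subgroup.mem_subgroupOf.mpr n.2⟩
    rw [h1]
    show lam _ = lam n
    congr 1
  obtain ⟨ψ, hψdef⟩ : ∃ ψ : T → ℂ, ψ = (fun t => ((μ t : ℂˣ) : ℂ)) * β := ⟨_, rfl⟩
  have hψ : Cfsg.IsIrrCharacter T ψ := by
    rw [hψdef]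
    exact Cfsg.Agent.Lib.Helper81.twist_irr (Cfsg.Agent.Lib.Helper15.isCharacter_of_hom μ)
      (by simp) hβ
  have hβ1 : β 1 ≠ 0 := Cfsg.Agent.Lib.Helper80.char_one_ne_zero hβ
  have hψθ : Cfsg.classInner (fun n : H => ψ ⟨n, hHT n.2⟩) (linFun lam) ≠ 0 := by
    have h1 : (fun n : H => ψ ⟨n, hHT n.2⟩) = fun n => β 1 * linFun lam n := by
      funext n
      rw [hψdef]
      show ((μ ⟨n, hHT n.2⟩ : ℂˣ) : ℂ) * β ⟨n, hHT n.2⟩ = β 1 * linFun lam n
      rw [hμH, hβH, linFun_apply]
      ring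
    rw [h1]
    have h2 : Cfsg.classInner (fun n => β 1 * linFun lam n) (linFun lam) =
        β 1 * Cfsg.classInner (linFun lam) (linFun lam) := by
      unfold Cfsg.classInner
      rw [mul_left_comm]
      congr 1
      rw [Finset.mul_sum]
      refine Finset.sum_congr rfl (fun n _ => ?_)
      ring
    rw [h2, Cfsg.Agent.Lib.Helper3.classInner_irr_self hθ, mul_one]
    exact hβ1
  have hirr := Cfsg.Agent.Lib.Helper82.clifford_induced_irr H T hHT hθ
    (fun g => by rw [hT]; exact Iff.rfl) hψ hψθ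
  have hdeg : Cfsg.charDegree (Cfsg.indFun T ψ) = T.index * Cfsg.charDegree β := by
    have h1 := (Cfsg.Agent.Lib.Helper79.irr_charDegree hirr).1
    have h2 := (Cfsg.Agent.Lib.Helper79.irr_charDegree hβ).1
    rw [Cfsg.Agent.Lib.Helper75.indFun_one] at h1
    have h3 : ψ 1 = β 1 := by
      rw [hψdef]
      show ((μ 1 : ℂˣ) : ℂ) * β 1 = β 1
      simp
    rw [h3, h2] at h1
    exact_mod_cast h1.symm
  rw [← hdeg]
  exact hcd ⟨_, hirr⟩

/-- the inertia group of a linear character of a normal Hall subgroup has index `1` or `m` -/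
theorem inertia_index (m : ℕ)
    (hcd : ∀ χ : Cfsg.IrrCharacter G, Cfsg.charDegree (χ : G → ℂ) = 1 ∨
      Cfsg.charDegree (χ : G → ℂ) = m)
    (H : Subgroup G) [hH : H.Normal] (hcop : Nat.Coprime (Nat.card H) H.index) (lam : H →* ℂˣ) :
    (Cfsg.Agent.Lib.Helper75.inertia H (linFun lam)).index = 1 ∨
      (Cfsg.Agent.Lib.Helper75.inertia H (linFun lam)).index = m := by
  have h := inertia_degree m hcd H hcop lam _ rfl (le_inertia_linFun H lam)
    (β := fun _ => (1 : ℂ)) Cfsg.Agent.Lib.Helper3.isIrrCharacter_one (fun _ => rfl)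
  have h1 : Cfsg.charDegree
      (fun _ : Cfsg.Agent.Lib.Helper75.inertia H (linFun lam) => (1 : ℂ)) = 1 := by
    unfold Cfsg.charDegree
    simp
  rw [h1, mul_one] at h
  exact h

/-- if the inertia group `T` has index `m ≠ 1`, then `T / H` is abelian -/
theorem inertia_comm (m : ℕ)
    (hcd : ∀ χ : Cfsg.IrrCharacter G, Cfsg.charDegree (χ : G → ℂ) = 1 ∨
      Cfsg.charDegree (χ : G → ℂ) = m)
    (H : Subgroup G) [hH : H.Normal] (hcop : Nat.Coprime (Nat.card H) H.index) (lam : H →* ℂˣ)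
    (T : Subgroup G) (hT : T = Cfsg.Agent.Lib.Helper75.inertia H (linFun lam))
    (hidx : T.index = m) :
    ∀ x ∈ T, ∀ y ∈ T, x * y * x⁻¹ * y⁻¹ ∈ H := by
  classical
  have hHT : H ≤ T := hT ▸ le_inertia_linFun H lam
  have hm0 : m ≠ 0 := by
    rw [← hidx]
    exact Subgroup.index_ne_zero_of_finite
  haveI hsubn : (H.subgroupOf T).Normal := inferInstance
  have hlin : ∀ ψ : Cfsg.IrrCharacter (T ⧸ H.subgroupOf T),
      Cfsg.charDegree (ψ : T ⧸ H.subgroupOf T → ℂ) = 1 := by
    intro ψ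
    have hβ := Cfsg.Agent.Lib.Helper80.isIrrCharacter_inflate (H.subgroupOf T) ψ.2
    have h := inertia_degree m hcd H hcop lam T hT hHT hβ (fun n =>
      congrArg (ψ : T ⧸ H.subgroupOf T → ℂ)
        ((QuotientGroup.eq_one_iff (⟨n, hHT n.2⟩ : T)).mpr (Subgroup.mem_subgroupOf.mpr n.2)))
    rw [hidx] at h
    have h2 : Cfsg.charDegree (fun t : T =>
        (ψ : T ⧸ H.subgroupOf T → ℂ) (QuotientGroup.mk t)) =
        Cfsg.charDegree (ψ : T ⧸ H.subgroupOf T → ℂ) := rfl
    rw [h2] at h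
    rcases h with h | h
    · exact Nat.eq_one_of_mul_eq_one_left h
    · exact Nat.eq_of_mul_eq_mul_left (Nat.pos_of_ne_zero hm0) (by rw [h, mul_one])
  have hc := Cfsg.Agent.Lib.Helper80.isMulCommutative_of_forall_charDegree_eq_one hlin
  intro x hx y hy
  have h1 := hc.is_comm.comm
    (QuotientGroup.mk (⟨x, hx⟩ : T)) (QuotientGroup.mk (⟨y, hy⟩ : T))
  rw [← QuotientGroup.mk_mul, ← QuotientGroup.mk_mul, QuotientGroup.eq] at h1
  have h2 : ((⟨x, hx⟩ : T) * ⟨y, hy⟩)⁻¹ * (⟨y, hy⟩ * ⟨x, hx⟩) ∈ H.subgroupOf T := h1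
  rw [Subgroup.mem_subgroupOf] at h2
  have h3 : x * y * x⁻¹ * y⁻¹ = (y * x) * ((x * y)⁻¹ * (y * x))⁻¹ * (y * x)⁻¹ := by group
  rw [h3]
  exact hH.conj_mem _ (H.inv_mem h2) (y * x)

end TwoDeg

section Aux

/-- linear characters of a finite abelian group separate points -/
theorem exists_lin_ne_one {A : Type u} [Group A] [Finite A] (hA : ∀ a b : A, a * b = b * a)
    (a : A) (ha : a ≠ 1) : ∃ lam : A →* ℂˣ, lam a ≠ 1 := by
  letI : CommGroup A := { (inferInstance : Group A) with mul_comm := hA }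
  exact CommGroup.exists_apply_ne_one_of_hasEnoughRootsOfUnity A ℂ ha

/-- a proper subgroup of a finite abelian group lies in the kernel of a nontrivial linear
character -/
theorem exists_lin_trivial_on {A : Type u} [Group A] [Finite A] (hA : ∀ a b : A, a * b = b * a)
    (Z : Subgroup A) (a : A) (ha : a ∉ Z) :
    ∃ lam : A →* ℂˣ, lam a ≠ 1 ∧ ∀ z ∈ Z, lam z = 1 := by
  haveI hZn : Z.Normal :=
    ⟨fun n hn g => by rw [hA g n, mul_inv_cancel_right]; exact hn⟩
  have hq : ∀ x y : A ⧸ Z, x * y = y * x := by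
    intro x y
    obtain ⟨x, rfl⟩ := QuotientGroup.mk_surjective x
    obtain ⟨y, rfl⟩ := QuotientGroup.mk_surjective y
    rw [← QuotientGroup.mk_mul, ← QuotientGroup.mk_mul, hA x y]
  have hne : (QuotientGroup.mk a : A ⧸ Z) ≠ 1 := fun h => ha ((QuotientGroup.eq_one_iff a).mp h)
  obtain ⟨l, hl⟩ := exists_lin_ne_one hq _ hne
  refine ⟨l.comp (QuotientGroup.mk' Z), hl, fun z hz => ?_⟩
  show l (QuotientGroup.mk z) = 1
  rw [(QuotientGroup.eq_one_iff z).mpr hz, map_one]

/-- a subgroup whose commutators lie in a normal Hall subgroup `H` centralized by it is abelian -/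
theorem comm_of_central_coprime {G : Type u} [Group G] [Finite G] (H : Subgroup G) [hH : H.Normal]
    (S : Subgroup G) (hS : ∀ x ∈ S, ∀ y ∈ S, x * y * x⁻¹ * y⁻¹ ∈ H)
    (hc : ∀ s ∈ S, ∀ h ∈ H, s * h = h * s) (hcop : Nat.Coprime (Nat.card H) H.index) :
    ∀ x ∈ S, ∀ y ∈ S, x * y = y * x := by
  intro x hx y hy
  obtain ⟨c, hcdef⟩ : ∃ c : G, c = x * y * x⁻¹ * y⁻¹ := ⟨_, rfl⟩
  have hcH : c ∈ H := hcdef ▸ hS x hx y hy
  have hxc : x * c = c * x := hc x hx c hcH
  have hpow : ∀ n : ℕ, x ^ n * y * (x ^ n)⁻¹ * y⁻¹ = c ^ n := by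
    intro n
    induction n with
    | zero => simp
    | succ n ih =>
      have h1 : x ^ (n + 1) * y * (x ^ (n + 1))⁻¹ * y⁻¹ =
          x * (x ^ n * y * (x ^ n)⁻¹ * y⁻¹) * (y * x⁻¹ * y⁻¹) := by
        rw [pow_succ']
        group
      rw [h1, ih]
      have h2 : x * c ^ n = c ^ n * x := (Commute.pow_right (show Commute x c from hxc) n).eq
      rw [h2, pow_succ, hcdef]
      group
  have hxn : x ^ H.index ∈ H := Subgroup.pow_index_mem H x
  have h1 : c ^ H.index = 1 := by
    rw [← hpow, ← hc y hy _ hxn]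
    group
  have h2 : orderOf c ∣ H.index := orderOf_dvd_of_pow_eq_one h1
  have h3 : orderOf c ∣ Nat.card H := by
    have h4 := orderOf_dvd_natCard (⟨c, hcH⟩ : H)
    rwa [Subgroup.orderOf_mk] at h4
  have h5 : orderOf c = 1 := Nat.eq_one_of_dvd_coprimes hcop h3 h2
  have h6 : c = 1 := orderOf_eq_one_iff.mp h5
  rw [hcdef] at h6
  have h7 : x * y = (x * y * x⁻¹ * y⁻¹) * (y * x) := by group
  rw [h7, h6, one_mul]

/-- a subgroup containing the commutator subgroup is normal -/
theorem normal_of_commutator_le {G : Type u} [Group G] (T : Subgroup G) (h : commutator G ≤ T) :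
    T.Normal := by
  refine ⟨fun n hn g => ?_⟩
  have h1 : ⁅g, n⁆ ∈ commutator G :=
    Subgroup.commutator_mem_commutator (Subgroup.mem_top g) (Subgroup.mem_top n)
  have h2 : g * n * g⁻¹ = ⁅g, n⁆ * n := by
    rw [commutatorElement_def]
    group
  rw [h2]
  exact T.mul_mem (h h1) hn

end Aux

section Main

variable {G : Type u} [Group G] [Fintype G]

/-- **Key dichotomy.** Let the irreducible character degrees of `G` be `1` and `m ≠ 1` and let `H`
be a normal Hall subgroup of order prime to `m`.  Then `G` has an abelian normal subgroup of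
index `m`, or `H` is central. -/
theorem two_degree_hall (m : ℕ) (hm1 : m ≠ 1)
    (hcd : ∀ χ : Cfsg.IrrCharacter G, Cfsg.charDegree (χ : G → ℂ) = 1 ∨
      Cfsg.charDegree (χ : G → ℂ) = m)
    (H : Subgroup G) [hH : H.Normal] (hcopm : Nat.Coprime (Nat.card H) m)
    (hcop : Nat.Coprime (Nat.card H) H.index) :
    (∃ A : Subgroup G, A.Normal ∧ (∀ a ∈ A, ∀ b ∈ A, a * b = b * a) ∧ A.index = m) ∨
      H ≤ Subgroup.center G := by
  classical
  have hHc := comm_of_coprime_normal m hcd H hcopm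
  have hHc' : ∀ a b : H, a * b = b * a := fun a b => Subtype.ext (hHc a a.2 b b.2)
  haveI : IsMulCommutative H := ⟨⟨hHc'⟩⟩
  by_cases hall : ∀ lam : H →* ℂˣ, Cfsg.Agent.Lib.Helper75.inertia H (linFun lam) = ⊤
  · right
    intro h hh
    rw [Subgroup.mem_center_iff]
    intro g
    by_contra hne
    have hne' : (⟨g * h * g⁻¹, hH.conj_mem h hh g⟩ : H) * (⟨h, hh⟩ : H)⁻¹ ≠ 1 := by
      intro h1
      have h2 := congrArg Subtype.val (mul_inv_eq_one.mp h1)
      simp only at h2
      apply hne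
      calc g * h = (g * h * g⁻¹) * g := by group
        _ = h * g := by rw [h2]
    obtain ⟨lam, hlam⟩ := exists_lin_ne_one hHc' _ hne'
    have hg : g ∈ Cfsg.Agent.Lib.Helper75.inertia H (linFun lam) := by
      rw [hall lam]; trivial
    have h3 := (mem_inertia_linFun H lam g).mp hg ⟨h, hh⟩
    apply hlam
    rw [map_mul, map_inv, h3, mul_inv_cancel]
  · left
    push Not at hall
    obtain ⟨lam₀, hlam₀⟩ := hall
    obtain ⟨T, hTdef⟩ : ∃ T : Subgroup G, T = Cfsg.Agent.Lib.Helper75.inertia H (linFun lam₀) :=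
      ⟨_, rfl⟩
    have hmemT : ∀ g : G, g ∈ T ↔
        ∀ h : H, lam₀ ⟨g * h * g⁻¹, hH.conj_mem h h.2 g⟩ = lam₀ h := by
      intro g
      rw [hTdef]
      exact mem_inertia_linFun H lam₀ g
    have hidx : T.index = m := by
      have h1 := inertia_index m hcd H hcop lam₀
      rw [← hTdef] at h1
      exact h1.resolve_left (fun h => hlam₀ (hTdef ▸ Subgroup.index_eq_one.mp h))
    have hGT : commutator G ≤ T := commutator_le_of_index m hm1 hcd T hidx
    haveI hTn : T.Normal := normal_of_commutator_le T hGT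
    have hTH : ∀ x ∈ T, ∀ y ∈ T, x * y * x⁻¹ * y⁻¹ ∈ H := inertia_comm m hcd H hcop lam₀ T hTdef hidx
    have hHT : H ≤ T := hTdef ▸ le_inertia_linFun H lam₀
    have hm0 : m ≠ 0 := by
      rw [← hidx]
      exact Subgroup.index_ne_zero_of_finite
    -- `T` centralizes `H`
    have hcent : ∀ t ∈ T, ∀ h ∈ H, t * h = h * t := by
      by_contra hcon
      push Not at hcon
      obtain ⟨t₀, ht₀, h₀, hh₀, hne⟩ := hcon
      obtain ⟨Q, hQ⟩ := Subgroup.exists_right_complement'_of_coprime hcop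
      obtain ⟨Q₀, hQ₀def⟩ : ∃ Q₀ : Subgroup G, Q₀ = Q ⊓ T := ⟨_, rfl⟩
      have hQ₀T : Q₀ ≤ T := hQ₀def ▸ inf_le_right
      have hQ₀cop : Nat.Coprime (Nat.card Q₀) (Nat.card H) := by
        have h1 : Nat.card Q₀ ∣ Nat.card Q := Subgroup.card_dvd_of_le (hQ₀def ▸ inf_le_left)
        have h2 : H.index = Nat.card Q := hQ.symm.index_eq_card
        rw [← h2] at h1
        exact (Nat.Coprime.coprime_dvd_right h1 hcop).symm
      have hTdec : ∀ t ∈ T, ∃ h ∈ H, ∃ q ∈ Q₀, t = h * q := by
        intro t ht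
        obtain ⟨⟨h, q⟩, hhq⟩ := hQ.2 t
        simp only at hhq
        refine ⟨h, h.2, q, ?_, hhq.symm⟩
        rw [hQ₀def]
        refine ⟨q.2, ?_⟩
        have h1 : (q : G) = (h : G)⁻¹ * t := by rw [← hhq]; group
        rw [h1]
        exact T.mul_mem (T.inv_mem (hHT h.2)) ht
      have hZ : ∀ h ∈ H, h ∈ Subgroup.centralizer (Q₀ : Set G) →
          h ∈ Subgroup.centralizer (T : Set G) := by
        intro h hh hc
        rw [Subgroup.mem_centralizer_iff] at hc ⊢
        intro t ht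
        obtain ⟨h', hh', q, hq, rfl⟩ := hTdec t ht
        have h1 := hc q hq
        have h2 := hHc h' hh' h hh
        calc h' * q * h = h' * (q * h) := by group
          _ = h' * (h * q) := by rw [h1]
          _ = (h' * h) * q := by group
          _ = (h * h') * q := by rw [h2]
          _ = h * (h' * q) := by group
      have hF1 : ∀ μ : H →* ℂˣ,
          (∀ t ∈ T, ∀ h : H, μ ⟨t * h * t⁻¹, hH.conj_mem h h.2 t⟩ = μ h) →
          (∀ h : H, (h : G) ∈ Subgroup.centralizer (T : Set G) → μ h = 1) →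
          ∀ h : H, μ h = 1 := by
        intro μ hinv hZ1
        have hsup := Cfsg.Agent.Lib.Helper1.abelian_centralizer_sup_commutator Q₀ H
          (fun q _ => (Subgroup.normalizer_eq_top_iff.mpr hH) ▸ Subgroup.mem_top q) hQ₀cop
        have hK : H ≤ (μ.ker).map H.subtype := by
          refine le_of_eq_of_le hsup.symm (sup_le ?_ ?_)
          · intro x hx
            exact ⟨⟨x, hx.1⟩, MonoidHom.mem_ker.mpr (hZ1 ⟨x, hx.1⟩ (hZ x hx.1 hx.2)), rfl⟩
          · rw [Subgroup.commutator_le]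
            intro g₁ hg₁ g₂ hg₂
            have hmem : g₂ * g₁⁻¹ * g₂⁻¹ ∈ H := hH.conj_mem _ (H.inv_mem hg₁) g₂
            refine ⟨(⟨g₁, hg₁⟩ : H) * ⟨g₂ * g₁⁻¹ * g₂⁻¹, hmem⟩, ?_, ?_⟩
            · rw [SetLike.mem_coe, MonoidHom.mem_ker, map_mul]
              have h1 := hinv g₂ (hQ₀T hg₂) (⟨g₁, hg₁⟩ : H)⁻¹
              have h2 : (⟨g₂ * g₁⁻¹ * g₂⁻¹, hmem⟩ : H) =
                  ⟨g₂ * ((⟨g₁, hg₁⟩ : H)⁻¹ : H) * g₂⁻¹,
                    hH.conj_mem _ ((⟨g₁, hg₁⟩ : H)⁻¹ : H).2 g₂⟩ := rfl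
              rw [h2, h1, map_inv, mul_inv_cancel]
            · show g₁ * (g₂ * g₁⁻¹ * g₂⁻¹) = ⁅g₁, g₂⁆
              rw [commutatorElement_def]
              group
        intro h
        obtain ⟨z, hz, hzh⟩ := hK h.2
        have h1 : z = h := Subtype.ext hzh
        rw [← h1]
        exact MonoidHom.mem_ker.mp hz
      -- a nontrivial character trivial on `C_H(T)`
      have hh₀Z : (⟨h₀, hh₀⟩ : H) ∉ (Subgroup.centralizer (T : Set G)).subgroupOf H := by
        intro h1
        rw [Subgroup.mem_subgroupOf, Subgroup.mem_centralizer_iff] at h1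
        exact hne (h1 t₀ ht₀)
      obtain ⟨lam₂, hlam₂ne, hlam₂Z⟩ := exists_lin_trivial_on hHc' _ _ hh₀Z
      have hlam₂Z' : ∀ h : H, (h : G) ∈ Subgroup.centralizer (T : Set G) → lam₂ h = 1 :=
        fun h hh => hlam₂Z h (Subgroup.mem_subgroupOf.mpr hh)
      -- conjugation preserves `C_H(T)`
      have hconjZ : ∀ (y : G) (h : H), (h : G) ∈ Subgroup.centralizer (T : Set G) →
          y * (h : G) * y⁻¹ ∈ Subgroup.centralizer (T : Set G) := by
        intro y h hh
        rw [Subgroup.mem_centralizer_iff] at hh ⊢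
        intro t ht
        have h1 := hh (y⁻¹ * t * y) (by
          have := hTn.conj_mem t ht y⁻¹
          rwa [inv_inv] at this)
        calc t * (y * (h : G) * y⁻¹) = y * ((y⁻¹ * t * y) * (h : G)) * y⁻¹ := by group
          _ = y * ((h : G) * (y⁻¹ * t * y)) * y⁻¹ := by rw [h1]
          _ = y * (h : G) * y⁻¹ * t := by group
      obtain ⟨T', hT'def⟩ : ∃ T' : Subgroup G,
          T' = Cfsg.Agent.Lib.Helper75.inertia H (linFun (lam₀ * lam₂)) := ⟨_, rfl⟩
      have hmemT' : ∀ g : G, g ∈ T' ↔ ∀ h : H,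
          (lam₀ * lam₂) ⟨g * h * g⁻¹, hH.conj_mem h h.2 g⟩ = (lam₀ * lam₂) h := by
        intro g
        rw [hT'def]
        exact mem_inertia_linFun H (lam₀ * lam₂) g
      have hT'le : T' ≤ T := by
        intro y hy
        rw [hmemT'] at hy
        rw [hmemT]
        -- the character `h ↦ lam₀ (y h y⁻¹) / lam₀ h` is `T`-invariant and trivial on `C_H(T)`
        let ν : H →* ℂˣ := (lam₀.comp (MulAut.conjNormal y : MulAut H).toMonoidHom) * lam₀⁻¹
        have hν : ∀ h : H, ν h = lam₀ ⟨y * h * y⁻¹, hH.conj_mem h h.2 y⟩ * (lam₀ h)⁻¹ :=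
          fun h => rfl
        have hν1 : ∀ h : H, ν h = 1 := by
          apply hF1 ν
          · intro t ht h
            rw [hν, hν]
            have h1 := (hmemT t).mp ht h
            have h2 := (hmemT (y * t * y⁻¹)).mp (hTn.conj_mem t ht y)
              ⟨y * h * y⁻¹, hH.conj_mem h h.2 y⟩
            rw [h1, ← h2]
            congr 2
            apply Subtype.ext
            show y * (t * (h : G) * t⁻¹) * y⁻¹ = y * t * y⁻¹ * (y * (h : G) * y⁻¹) * (y * t * y⁻¹)⁻¹
            group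
          · intro h hh
            rw [hν]
            have h1 := hy h
            rw [MonoidHom.mul_apply, MonoidHom.mul_apply, hlam₂Z' h hh,
              hlam₂Z' ⟨y * h * y⁻¹, hH.conj_mem h h.2 y⟩ (hconjZ y h hh), mul_one, mul_one] at h1
            rw [h1, mul_inv_cancel]
        intro h
        have h1 := hν1 h
        rw [hν] at h1
        exact mul_inv_eq_one.mp h1
      have hT'ne : T' ≠ T := by
        intro hTT
        apply hlam₂ne
        apply hF1 lam₂ _ hlam₂Z'
        intro t ht h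
        have h1 := (hmemT' t).mp (hTT ▸ ht) h
        have h2 := (hmemT t).mp ht h
        rw [MonoidHom.mul_apply, MonoidHom.mul_apply, h2] at h1
        exact mul_left_cancel h1
      have hlt : T' < T := lt_of_le_of_ne hT'le hT'ne
      have hidxlt : T.index < T'.index := Subgroup.index_strictAnti hlt
      have h1 := inertia_index m hcd H hcop (lam₀ * lam₂)
      rw [← hT'def] at h1
      rw [hidx] at hidxlt
      rcases h1 with h1 | h1
      · rw [h1] at hidxlt
        omega
      · rw [h1] at hidxlt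
        omega
    exact ⟨T, hTn, comm_of_central_coprime H T hTH hcent hcop, hidx⟩

/-- an element with two coprime powers in a subgroup lies in the subgroup -/
theorem mem_of_pow_mem_of_coprime (K : Subgroup G) (x : G) (n : ℕ) (hx : x ^ n ∈ K)
    (hcop : n.Coprime (orderOf x)) : x ∈ K := by
  obtain ⟨j, hj⟩ := exists_pow_eq_self_of_coprime hcop
  rw [← hj]
  exact K.pow_mem hx j

/-- **Isaacs, Theorem 12.5** (internal form).  If the irreducible character degrees of `G` are
exactly `1` and `m ≠ 1`, then `G` has an abelian normal subgroup of index `m`, or `m` is a power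
of a prime `p` and `G` has a central normal `p`-complement. -/
theorem two_degree_structure (m : ℕ)
    (hcd : ∀ χ : Cfsg.IrrCharacter G, Cfsg.charDegree (χ : G → ℂ) = 1 ∨
      Cfsg.charDegree (χ : G → ℂ) = m)
    (hm : ∃ χ : Cfsg.IrrCharacter G, Cfsg.charDegree (χ : G → ℂ) = m) (hm1 : m ≠ 1) :
    (∃ A : Subgroup G, A.Normal ∧ (∀ a ∈ A, ∀ b ∈ A, a * b = b * a) ∧ A.index = m) ∨
    ∃ (p e : ℕ) (N : Subgroup G), p.Prime ∧ m = p ^ e ∧ N.Normal ∧ N ≤ Subgroup.center G ∧
      (Nat.card N).Coprime p ∧ ∃ k : ℕ, N.index = p ^ k := by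
  classical
  obtain ⟨χ₀, hχ₀⟩ := hm
  have hm0 : m ≠ 0 := by
    rw [← hχ₀]
    exact (irr_charDegree χ₀).1.ne'
  by_cases hpp : ∃ p e : ℕ, p.Prime ∧ m = p ^ e
  · obtain ⟨p, e, hp, hme⟩ := hpp
    have he : e ≠ 0 := by
      intro h0
      rw [h0, pow_zero] at hme
      exact hm1 hme
    have hdeg : ∀ χ : Cfsg.IrrCharacter G, Cfsg.charDegree (χ : G → ℂ) ≠ 1 →
        p ∣ Cfsg.charDegree (χ : G → ℂ) := by
      intro χ hχ
      rw [(hcd χ).resolve_left hχ, hme]
      exact dvd_pow_self p he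
    obtain ⟨N, hN, hNp, k, hk⟩ := Cfsg.Agent.S4456.result p hp hdeg
    haveI := hN
    have h1 : Nat.Coprime (Nat.card N) m := by
      rw [hme]
      exact Nat.Coprime.pow_right e hNp
    have h2 : Nat.Coprime (Nat.card N) N.index := by
      rw [hk]
      exact Nat.Coprime.pow_right k hNp
    rcases two_degree_hall m hm1 hcd N h1 h2 with h | h
    · exact Or.inl h
    · exact Or.inr ⟨p, e, N, hp, hme, hN, h, hNp, k, hk⟩
  · -- `m` is not a prime power
    have hdeg : ∀ p : ℕ, p.Prime → p ∣ m → ∀ χ : Cfsg.IrrCharacter G,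
        Cfsg.charDegree (χ : G → ℂ) ≠ 1 → p ∣ Cfsg.charDegree (χ : G → ℂ) := by
      intro p _ hpm χ hχ
      rw [(hcd χ).resolve_left hχ]
      exact hpm
    have hex : ∀ p : {p : ℕ // p.Prime ∧ p ∣ m}, ∃ N : Subgroup G, N.Normal ∧
        (Nat.card N).Coprime (p : ℕ) ∧ ∃ k : ℕ, N.index = (p : ℕ) ^ k :=
      fun p => Cfsg.Agent.S4456.result (p : ℕ) p.2.1 (hdeg p p.2.1 p.2.2)
    choose N hNn hNp hNk using hex
    obtain ⟨H, hHdef⟩ : ∃ H : Subgroup G, H = ⨅ p, N p := ⟨_, rfl⟩
    haveI hHn : H.Normal := hHdef ▸ Subgroup.normal_iInf_normal hNn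
    have hHle : ∀ p, H ≤ N p := fun p => hHdef ▸ iInf_le N p
    -- `G / N p` is abelian
    have hcomm : ∀ p, commutator G ≤ N p := by
      intro p
      haveI := hNn p
      obtain ⟨k, hk⟩ := hNk p
      have hlin : ∀ ψ : Cfsg.IrrCharacter (G ⧸ N p),
          Cfsg.charDegree (ψ : G ⧸ N p → ℂ) = 1 := by
        intro ψ
        have hβ := Cfsg.Agent.Lib.Helper80.isIrrCharacter_inflate (N p) ψ.2
        have h2 : Cfsg.charDegree (fun g : G => (ψ : G ⧸ N p → ℂ) (QuotientGroup.mk g)) =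
            Cfsg.charDegree (ψ : G ⧸ N p → ℂ) := rfl
        have h3 : Cfsg.charDegree (ψ : G ⧸ N p → ℂ) ∣ (p : ℕ) ^ k := by
          rw [← hk, Subgroup.index_eq_card]
          exact Cfsg.Agent.Lib.Helper80.charDegree_dvd_card ψ.2
        rcases hcd ⟨_, hβ⟩ with h | h
        · rw [← h2]; exact h
        · exfalso
          rw [← h2, show Cfsg.charDegree (fun g : G => (ψ : G ⧸ N p → ℂ) (QuotientGroup.mk g)) = m
            from h] at h3
          obtain ⟨j, -, hj⟩ := (Nat.dvd_prime_pow p.2.1).mp h3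
          exact hpp ⟨p, j, p.2.1, hj⟩
      have hc := Cfsg.Agent.Lib.Helper80.isMulCommutative_of_forall_charDegree_eq_one hlin
      exact Subgroup.Normal.quotient_commutative_iff_commutator_le.mp hc
    have hcopm : Nat.Coprime (Nat.card H) m := by
      by_contra hcon
      obtain ⟨q, hq, hqd⟩ := Nat.exists_prime_and_dvd hcon
      have hqm : q ∣ m := hqd.trans (Nat.gcd_dvd_right _ _)
      have hqH : q ∣ Nat.card H := hqd.trans (Nat.gcd_dvd_left _ _)
      have h1 : q ∣ Nat.card (N ⟨q, hq, hqm⟩) := hqH.trans (Subgroup.card_dvd_of_le (hHle _))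
      have h2 := hNp ⟨q, hq, hqm⟩
      exact hq.one_lt.ne' (Nat.eq_one_of_dvd_coprimes h2 h1 (dvd_refl q))
    have hcop : Nat.Coprime (Nat.card H) H.index := by
      by_contra hcon
      obtain ⟨q, hq, hqd⟩ := Nat.exists_prime_and_dvd hcon
      have hqi : q ∣ H.index := hqd.trans (Nat.gcd_dvd_right _ _)
      have hqH : q ∣ Nat.card H := hqd.trans (Nat.gcd_dvd_left _ _)
      have hqm : ¬ q ∣ m := fun h =>
        hq.one_lt.ne' (Nat.eq_one_of_dvd_coprimes hcopm hqH h)
      haveI : Fact q.Prime := ⟨hq⟩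
      obtain ⟨S⟩ : Nonempty (Sylow q G) := inferInstance
      have hSH : (S : Subgroup G) ≤ H := by
        intro x hx
        rw [hHdef, Subgroup.mem_iInf]
        intro p
        haveI := hNn p
        obtain ⟨k, hk⟩ := hNk p
        have h1 : x ^ ((p : ℕ) ^ k) ∈ N p := hk ▸ Subgroup.pow_index_mem (N p) x
        apply mem_of_pow_mem_of_coprime (N p) x _ h1
        obtain ⟨a, ha⟩ := S.isPGroup' ⟨x, hx⟩
        have h2 : orderOf x ∣ q ^ a := by
          apply orderOf_dvd_of_pow_eq_one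
          have := congrArg Subtype.val ha
          simpa using this
        have hpq : (p : ℕ) ≠ q := fun h => hqm (h ▸ p.2.2)
        have h3 : Nat.Coprime ((p : ℕ) ^ k) (q ^ a) :=
          Nat.Coprime.pow k a ((Nat.coprime_primes p.2.1 hq).mpr hpq)
        exact Nat.Coprime.coprime_dvd_right h2 h3
      have h1 : H.index ∣ (S : Subgroup G).index := Subgroup.index_dvd_of_le hSH
      exact S.not_dvd_index (hqi.trans h1)
    rcases two_degree_hall m hm1 hcd H hcopm hcop with h | h
    · exact Or.inl h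
    · exfalso
      have hab : ∀ x ∈ (⊤ : Subgroup G), ∀ y ∈ (⊤ : Subgroup G), x * y = y * x := by
        apply comm_of_central_coprime H ⊤ _ _ hcop
        · intro x _ y _
          rw [hHdef, Subgroup.mem_iInf]
          intro p
          apply hcomm p
          have h1 : ⁅x, y⁆ ∈ commutator G :=
            Subgroup.commutator_mem_commutator (Subgroup.mem_top x) (Subgroup.mem_top y)
          rwa [commutatorElement_def] at h1
        · intro s _ z hz
          exact (Subgroup.mem_center_iff.mp (h hz)) s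
      have h1 := Cfsg.Agent.Lib.Helper82.irr_one_eq_one_of_comm
        (fun a b => hab a (Subgroup.mem_top a) b (Subgroup.mem_top b)) χ₀.2
      have h2 := (irr_charDegree χ₀).2
      rw [h1, hχ₀] at h2
      apply hm1
      exact_mod_cast h2.symm

/-- **Two-degree Taketa.** A monomial group whose character degrees are `1` and `m ≠ 1` has
abelian commutator subgroup. -/
theorem comm_commutator_of_monomial (m : ℕ) (hm1 : m ≠ 1)
    (hcd : ∀ χ : Cfsg.IrrCharacter G, Cfsg.charDegree (χ : G → ℂ) = 1 ∨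
      Cfsg.charDegree (χ : G → ℂ) = m)
    (hM : ∀ χ : G → ℂ, Cfsg.IsIrrCharacter G χ →
      ∃ (H : Subgroup G) (lam : H →* ℂˣ), χ = Cfsg.indFun H (fun h => (lam h : ℂ))) :
    ∀ a ∈ commutator G, ∀ b ∈ commutator G, a * b = b * a := by
  classical
  have key : ∀ g ∈ ⁅commutator G, commutator G⁆, g = 1 := by
    intro g hg
    have h1 : IsConj g 1 := by
      rw [Cfsg.Agent.S0136.result]
      intro χ
      obtain ⟨H, lam, hχ'⟩ := hM χ χ.2
      have hidx : Cfsg.charDegree (χ : G → ℂ) = H.index := by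
        have h1 := (irr_charDegree χ).2
        rw [hχ', Cfsg.Agent.Lib.Helper75.indFun_one] at h1
        simp only [map_one, Units.val_one, mul_one] at h1
        rw [hχ']
        exact_mod_cast h1.symm
      have hsub : commutator G ≤ H := by
        rcases hcd χ with h | h
        · rw [hidx] at h
          rw [Subgroup.index_eq_one.mp h]
          exact le_top
        · rw [hidx] at h
          exact commutator_le_of_index m hm1 hcd H h
      have hker : ∀ y ∈ ⁅commutator G, commutator G⁆, ∃ hy : y ∈ H, lam ⟨y, hy⟩ = 1 := by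
        have h1 : ⁅commutator G, commutator G⁆ ≤ (lam.ker).map H.subtype := by
          refine (Subgroup.commutator_mono hsub hsub).trans ?_
          rw [Subgroup.commutator_le]
          intro a ha b hb
          let a' : H := ⟨a, ha⟩
          let b' : H := ⟨b, hb⟩
          refine ⟨a' * b' * a'⁻¹ * b'⁻¹, ?_, rfl⟩
          show a' * b' * a'⁻¹ * b'⁻¹ ∈ lam.ker
          rw [MonoidHom.mem_ker, map_mul, map_mul, map_mul, map_inv, map_inv]
          rw [mul_comm (lam a') (lam b'), mul_inv_cancel_right, mul_inv_cancel]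
        intro y hy
        obtain ⟨z, hz, rfl⟩ := h1 hy
        exact ⟨z.2, hz⟩
      rw [hχ']
      exact Cfsg.Agent.Lib.Helper3.indFun_eq_one_of_normal H lam _ hker hg
    exact isConj_one_left.mp h1
  intro a ha b hb
  have h1 := key _ (Subgroup.commutator_mem_commutator ha hb)
  rw [commutatorElement_def] at h1
  have h2 : a * b = (a * b * a⁻¹ * b⁻¹) * (b * a) := by group
  rw [h2, h1, one_mul]

end Main

end Cfsg.Agent.Lib.Helper74
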