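import Mathlib
import Cfsg.Agent.Lib.Helper8.PSUOut
import Cfsg.Agent.Lib.Helper43.AutSp4.Core
import Cfsg.Agent.Lib.Helper43.AutSp4.Balance
import Cfsg.Agent.S0827
import Cfsg.Agent.S2692

set_option autoImplicit false
set_option linter.unusedSectionVars false
set_option linter.unusedVariables false

namespace Cfsg.Agent.Lib.Helper74.PSUBal38

open Matrix Cfsg.Agent.Lib.Helper43.AutPSLn Cfsg.Agent.Lib.Helper43.FieldAut
  Cfsg.Agent.Lib.Helper43.AutSp4 Cfsg.Agent.Lib.Helper8 Cfsg.Agent.Lib.Helper45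

/-- In a group with a normal subgroup of exponent 3 and quaternion quotient, elements of
order dividing 3 generate a group of exponent 3. -/
theorem cube_mul_inv_of_quot {G : Type*} [Group G] (N : Subgroup G) [N.Normal]
    (hN3 : ∀ x ∈ N, x ^ 3 = 1) (e : G ⧸ N ≃* QuaternionGroup 2)
    (x y : G) (hx : x ^ 3 = 1) (hy : y ^ 3 = 1) : (x * y⁻¹) ^ 3 = 1 := by
  have hcard : Nat.card (G ⧸ N) = 8 := by
    rw [Nat.card_congr e.toEquiv, Nat.card_eq_fintype_card, QuaternionGroup.card]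
  have hfin : Finite (G ⧸ N) := Nat.finite_of_card_ne_zero (by rw [hcard]; norm_num)
  have key : ∀ z : G, z ^ 3 = 1 → z ∈ N := by
    intro z hz
    have h1 : (QuotientGroup.mk z : G ⧸ N) ^ 3 = 1 := by
      rw [← QuotientGroup.mk_pow, hz]; rfl
    have h2 : (QuotientGroup.mk z : G ⧸ N) ^ 8 = 1 := by
      rw [← hcard]; exact pow_card_eq_one'
    have h3 : (QuotientGroup.mk z : G ⧸ N) ^ 9 = 1 := by
      rw [show 9 = 3 * 3 by norm_num, pow_mul, h1, one_pow]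
    rw [show 9 = 8 + 1 by norm_num, pow_add, h2, one_mul, pow_one] at h3
    exact (QuotientGroup.eq_one_iff z).mp h3
  exact hN3 _ (N.mul_mem (key x hx) (N.inv_mem (key y hy)))

section mats

variable {F : Type*} [Field F]

/-- The vector `(1, w, w²)`. -/
def dv (w : F) : Fin 3 → F := ![1, w, w ^ 2]

/-- `diag(1, w, w²)`. -/
def dg (w : F) : Matrix (Fin 3) (Fin 3) F := Matrix.diagonal (dv w)

/-- The cyclic permutation matrix. -/
def pm (F : Type*) [Field F] : Matrix (Fin 3) (Fin 3) F := (finRotate 3).permMatrix F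

theorem cube_of_root {w : F} (hw : w ^ 2 + w + 1 = 0) : w ^ 3 = 1 := by
  linear_combination (w - 1) * hw

theorem root_ne_one {w : F} (hw : w ^ 2 + w + 1 = 0) (h3 : (3 : F) ≠ 0) : w ≠ 1 := by
  rintro rfl
  apply h3
  linear_combination hw

theorem dv_pow (w : F) (hw : w ^ 3 = 1) (i : Fin 3) : dv w i ^ 3 = 1 := by
  fin_cases i
  · simp [dv]
  · simpa [dv] using hw
  · simp [dv]; linear_combination (w ^ 3 + 1) * hw

theorem dv_rot (w : F) (hw : w ^ 3 = 1) (i : Fin 3) : dv w (finRotate 3 i) = w * dv w i := by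
  fin_cases i
  · simp [dv]
  · simp [dv]; ring
  · simp [dv]; linear_combination -hw

theorem dv_ne_zero (w : F) (hw : w ^ 3 = 1) (i : Fin 3) : dv w i ≠ 0 := by
  intro h
  have := dv_pow w hw i
  rw [h] at this
  simp at this

theorem dv_injective {w : F} (hw : w ^ 2 + w + 1 = 0) (hw1 : w ≠ 1) :
    Function.Injective (dv w) := by
  have h0 : w ≠ 0 := by
    rintro rfl
    simp at hw
  have h2 : w ^ 2 ≠ 1 := by
    intro h
    have h3 : (w - 1) * (w + 1) = 0 := by linear_combination h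
    rcases mul_eq_zero.mp h3 with h4 | h4
    · exact hw1 (sub_eq_zero.mp h4)
    · have h5 : w = -1 := eq_neg_of_add_eq_zero_left h4
      rw [h5] at hw
      norm_num at hw
  have h3 : w ^ 2 ≠ w := by
    intro h
    have h4 : w * (w - 1) = 0 := by linear_combination h
    rcases mul_eq_zero.mp h4 with h5 | h5
    · exact h0 h5
    · exact hw1 (sub_eq_zero.mp h5)
  intro a b hab
  fin_cases a <;> fin_cases b
  · rfl
  · exact absurd (hab : (1 : F) = w).symm hw1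
  · exact absurd (hab : (1 : F) = w ^ 2).symm h2
  · exact absurd (hab : w = 1) hw1
  · rfl
  · exact absurd (hab : w = w ^ 2).symm h3
  · exact absurd (hab : w ^ 2 = 1) h2
  · exact absurd (hab : w ^ 2 = w) h3
  · rfl

theorem dg_det (w : F) : (dg w).det = w ^ 3 := by
  rw [dg, Matrix.det_diagonal, Fin.prod_univ_three]
  simp [dv]
  ring

theorem dg_cube {w : F} (hw : w ^ 3 = 1) : dg w * dg w * dg w = 1 := by
  rw [dg, Matrix.diagonal_mul_diagonal, Matrix.diagonal_mul_diagonal, ← Matrix.diagonal_one]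
  congr 1
  ext i
  have := dv_pow w hw i
  show dv w i * dv w i * dv w i = 1
  linear_combination this

theorem dg_map {F' : Type*} [Field F'] (f : F →+* F') (w : F) : (dg w).map f = dg (f w) := by
  rw [dg, dg, Matrix.diagonal_map (map_zero f)]
  congr 1
  ext i
  fin_cases i <;> simp [dv]

theorem pm_map {F' : Type*} [Field F'] (f : F →+* F') : (pm F).map f = pm F' := by
  ext i j
  simp only [pm, Matrix.map_apply, Equiv.Perm.permMatrix, PEquiv.toMatrix_apply]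
  split_ifs <;> simp

theorem pm_det : (pm F).det = 1 := by
  rw [pm, Matrix.det_permutation]
  simp [sign_finRotate]

theorem pm_cube : pm F * pm F * pm F = 1 := by
  rw [pm, ← Matrix.permMatrix_mul, ← Matrix.permMatrix_mul]
  have h : finRotate 3 * (finRotate 3 * finRotate 3) = 1 := by decide
  rw [h, Matrix.permMatrix_one]

theorem mul_pm (K : Matrix (Fin 3) (Fin 3) F) (i j : Fin 3) :
    (K * pm F) i j = K i ((finRotate 3).symm j) := by
  rw [pm, Equiv.Perm.permMatrix, PEquiv.mul_toMatrix_toPEquiv]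
  rfl

theorem pm_mul (K : Matrix (Fin 3) (Fin 3) F) (i j : Fin 3) :
    (pm F * K) i j = K (finRotate 3 i) j := by
  rw [pm, Equiv.Perm.permMatrix, PEquiv.toMatrix_toPEquiv_mul]
  rfl

/-- If `K` conjugates `diag(1,w',w'²)` to a multiple of `diag(1,w,w²)` and normalizes the cyclic
permutation matrix up to a scalar, then `w' = w`. -/
theorem root_eq_of_conj (K : Matrix (Fin 3) (Fin 3) F) (hK : K ≠ 0) {w w' : F}
    (hw : w ^ 2 + w + 1 = 0) (hw' : w' ^ 2 + w' + 1 = 0) (l m : F)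
    (h1 : K * dg w' = l • (dg w * K)) (h2 : K * pm F = m • (pm F * K)) : w' = w := by
  obtain ⟨i, j, hij⟩ : ∃ i j, K i j ≠ 0 := by
    by_contra hcon
    push Not at hcon
    exact hK (by ext i j; exact hcon i j)
  have e1 : ∀ i j, K i j * dv w' j = l * (dv w i * K i j) := by
    intro i j
    have := congrFun (congrFun h1 i) j
    rw [dg, dg, Matrix.mul_diagonal, Matrix.smul_apply, Matrix.diagonal_mul, smul_eq_mul] at this
    exact this
  have e2 : ∀ i j, K i j = m * K (finRotate 3 i) (finRotate 3 j) := by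
    intro i j
    have := congrFun (congrFun h2 i) (finRotate 3 j)
    rw [mul_pm, Matrix.smul_apply, pm_mul, smul_eq_mul, Equiv.symm_apply_apply] at this
    exact this
  have hne : K (finRotate 3 i) (finRotate 3 j) ≠ 0 := by
    intro h0
    apply hij
    rw [e2 i j, h0, mul_zero]
  have a1 := e1 i j
  have a2 := e1 (finRotate 3 i) (finRotate 3 j)
  rw [dv_rot w' (cube_of_root hw'), dv_rot w (cube_of_root hw)] at a2
  have b1 : dv w' j = l * dv w i := by
    apply mul_left_cancel₀ hij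
    linear_combination a1
  have b2 : w' * dv w' j = l * (w * dv w i) := by
    apply mul_left_cancel₀ hne
    linear_combination a2
  have b3 : (w' - w) * dv w' j = 0 := by linear_combination b2 - w * b1
  rcases mul_eq_zero.mp b3 with h | h
  · exact sub_eq_zero.mp h
  · exact absurd h (dv_ne_zero w' (cube_of_root hw') j)

theorem twist_cube (K A : Matrix (Fin 3) (Fin 3) F) (hK : K ≠ 0) (c : F)
    (h : K * A = c • (A * K)) (hA : A * A * A = 1) :
    K * K * K * A = A * (K * K * K) := by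
  have s1 : K * A * A = (c * c) • (A * A * K) := by
    rw [h, Matrix.smul_mul, Matrix.mul_assoc A K A, h, Matrix.mul_smul, smul_smul,
      Matrix.mul_assoc]
  have s2 : K * A * A * A = (c * c * c) • (A * A * A * K) := by
    rw [s1, Matrix.smul_mul, Matrix.mul_assoc (A * A) K A, h, Matrix.mul_smul, smul_smul,
      Matrix.mul_assoc (A * A) A K]
  have hc : c * c * c = 1 := by
    rw [Matrix.mul_assoc, Matrix.mul_assoc, ← Matrix.mul_assoc A A A, hA, Matrix.mul_one,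
      Matrix.one_mul] at s2
    by_contra hne
    apply hK
    have h3 : (c * c * c - 1) • K = 0 := by
      rw [sub_smul, one_smul, ← s2, sub_self]
    rcases smul_eq_zero.mp h3 with h4 | h4
    · exact absurd (sub_eq_zero.mp h4) hne
    · exact h4
  have t1 : K * K * A = (c * c) • (A * K * K) := by
    rw [Matrix.mul_assoc K K A, h, Matrix.mul_smul, ← Matrix.mul_assoc K A K, h, Matrix.smul_mul,
      smul_smul]
  have t2 : K * K * K * A = (c * c * c) • (A * K * K * K) := by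
    rw [Matrix.mul_assoc (K * K) K A, h, Matrix.mul_smul, ← Matrix.mul_assoc (K * K) A K, t1,
      Matrix.smul_mul, smul_smul]
    congr 1
    ring
  rw [t2, hc, one_smul]
  simp only [Matrix.mul_assoc]

/-- A matrix that normalizes `diag(1,w,w²)` and the cyclic permutation matrix up to scalars has
scalar cube. -/
theorem cube_scalar_of_conj (K : Matrix (Fin 3) (Fin 3) F) (hK : K ≠ 0) {w : F}
    (hw : w ^ 2 + w + 1 = 0) (hw1 : w ≠ 1) (l m : F)
    (h1 : K * dg w = l • (dg w * K)) (h2 : K * pm F = m • (pm F * K)) :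
    ∃ c : F, K * K * K = c • (1 : Matrix (Fin 3) (Fin 3) F) := by
  have c1 := twist_cube K (dg w) hK l h1 (dg_cube (cube_of_root hw))
  have c2 := twist_cube K (pm F) hK m h2 pm_cube
  obtain ⟨X, hX⟩ : ∃ X : Matrix (Fin 3) (Fin 3) F, X = K * K * K := ⟨_, rfl⟩
  rw [← hX] at c1 c2 ⊢
  have e1 : ∀ i j, X i j * dv w j = dv w i * X i j := by
    intro i j
    have := congrFun (congrFun c1 i) j
    rw [dg, Matrix.mul_diagonal, Matrix.diagonal_mul] at this
    exact this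
  have e2 : ∀ i j, X i j = X (finRotate 3 i) (finRotate 3 j) := by
    intro i j
    have := congrFun (congrFun c2 i) (finRotate 3 j)
    rw [mul_pm, pm_mul, Equiv.symm_apply_apply] at this
    exact this
  have hoff : ∀ i j, i ≠ j → X i j = 0 := by
    intro i j hij
    have h3 : X i j * (dv w j - dv w i) = 0 := by linear_combination e1 i j
    rcases mul_eq_zero.mp h3 with h4 | h4
    · exact h4
    · exact absurd (dv_injective hw hw1 (sub_eq_zero.mp h4)).symm hij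
  have d1 : X 0 0 = X 1 1 := e2 0 0
  have d2 : X 1 1 = X 2 2 := e2 1 1
  refine ⟨X 0 0, ?_⟩
  ext i j
  by_cases hij : i = j
  · subst hij
    rw [Matrix.smul_apply, Matrix.one_apply_eq, smul_eq_mul, mul_one]
    fin_cases i
    · rfl
    · exact d1.symm
    · exact (d1.trans d2).symm
  · rw [hoff i j hij, Matrix.smul_apply, Matrix.one_apply_ne hij, smul_zero]

end mats

section four

variable {F₀ : Type*} [Field F₀] [Fintype F₀]

theorem exists_root_of_card_four (h : Fintype.card F₀ = 4) :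
    ∃ w : F₀, w ^ 2 + w + 1 = 0 := by
  have hu : Nat.card F₀ˣ = 3 := by
    rw [Nat.card_units, Nat.card_eq_fintype_card, h]
  haveI : Nontrivial F₀ˣ := Finite.one_lt_card_iff_nontrivial.mp (by rw [hu]; norm_num)
  obtain ⟨x, hx⟩ := exists_ne (1 : F₀ˣ)
  have hx3 : x ^ 3 = 1 := by
    rw [← hu]
    exact pow_card_eq_one'
  refine ⟨(x : F₀), ?_⟩
  have h3 : (x : F₀) ^ 3 = 1 := by
    have := congrArg Units.val hx3
    rwa [Units.val_pow_eq_pow_val, Units.val_one] at this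
  have h1 : ((x : F₀) - 1) * ((x : F₀) ^ 2 + x + 1) = 0 := by
    linear_combination h3
  rcases mul_eq_zero.mp h1 with h2 | h2
  · exact absurd (Units.ext (sub_eq_zero.mp h2)) hx
  · exact h2

theorem two_eq_zero_of_card_four (h : Fintype.card F₀ = 4) : (2 : F₀) = 0 := by
  have h4 : ((Fintype.card F₀ : ℕ) : F₀) = 0 := Nat.cast_card_eq_zero F₀
  rw [h] at h4
  have h5 : (2 : F₀) * 2 = 0 := by
    have : ((4 : ℕ) : F₀) = 2 * 2 := by norm_num
    rw [← this]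
    exact h4
  exact mul_self_eq_zero.mp h5

theorem mem_four (h : Fintype.card F₀ = 4) {w : F₀} (hw : w ^ 2 + w + 1 = 0) (b : F₀) :
    b = 0 ∨ b = -1 ∨ b = -w ∨ b = -w - 1 := by
  have h2 := two_eq_zero_of_card_four h
  have hb : b ^ 4 = b := by
    rw [← h]
    exact FiniteField.pow_card b
  have hP : b * (b + 1) * (b + w) * (b + w + 1) = 0 := by
    linear_combination hb + (b ^ 3 + w * b * (b ^ 2 + b)) * h2 + (b ^ 2 + b) * hw
  rcases mul_eq_zero.mp hP with h3 | h3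
  · rcases mul_eq_zero.mp h3 with h4 | h4
    · rcases mul_eq_zero.mp h4 with h5 | h5
      · exact Or.inl h5
      · exact Or.inr (Or.inl (eq_neg_of_add_eq_zero_left h5))
    · exact Or.inr (Or.inr (Or.inl (eq_neg_of_add_eq_zero_left h4)))
  · refine Or.inr (Or.inr (Or.inr ?_))
    linear_combination h3

theorem three_ne_zero_of_card_four (h : Fintype.card F₀ = 4) : (3 : F₀) ≠ 0 := by
  have h2 := two_eq_zero_of_card_four h
  intro h3
  have : (1 : F₀) = 0 := by linear_combination h3 - h2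
  exact one_ne_zero this

end four

section defs

variable {n : ℕ} {F : Type*} [Field F] [Fintype F] {q : ℕ}

/-- `suGU` as a homomorphism. -/
def suGUh (n : ℕ) (F : Type*) [Field F] [Fintype F] (q : ℕ) :
    ↥(Cfsg.SU n F q) →* ↥(Cfsg.GU n F q) where
  toFun := PSUSplit.suGU
  map_one' := Subtype.ext (map_one Matrix.SpecialLinearGroup.toGL)
  map_mul' a b := Subtype.ext (map_mul Matrix.SpecialLinearGroup.toGL _ _)

theorem suGUh_apply (s : ↥(Cfsg.SU n F q)) : suGUh n F q s = PSUSplit.suGU s := rfl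

theorem suGU_mat (s : ↥(Cfsg.SU n F q)) :
    (((PSUSplit.suGU s : ↥(Cfsg.GU n F q)) : GL (Fin n) F) : Matrix (Fin n) (Fin n) F) =
      ((s : Matrix.SpecialLinearGroup (Fin n) F) : Matrix (Fin n) (Fin n) F) := rfl

/-- An element of `SU` from a matrix. -/
def mkSU (M : Matrix (Fin n) (Fin n) F) (hdet : M.det = 1) (hM : IsHermIso n F q M) :
    ↥(Cfsg.SU n F q) := ⟨⟨M, hdet⟩, hM⟩

theorem mkSU_mat (M : Matrix (Fin n) (Fin n) F) (hdet : M.det = 1) (hM : IsHermIso n F q M) :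
    (((mkSU M hdet hM : ↥(Cfsg.SU n F q)) : Matrix.SpecialLinearGroup (Fin n) F) :
      Matrix (Fin n) (Fin n) F) = M := rfl

theorem su_ext {s t : ↥(Cfsg.SU n F q)}
    (h : ((s : Matrix.SpecialLinearGroup (Fin n) F) : Matrix (Fin n) (Fin n) F) =
      ((t : Matrix.SpecialLinearGroup (Fin n) F) : Matrix (Fin n) (Fin n) F)) : s = t :=
  Subtype.ext (Subtype.ext h)

theorem su_pow_three_mat (s : ↥(Cfsg.SU n F q)) :
    (((s ^ 3 : ↥(Cfsg.SU n F q)) : Matrix.SpecialLinearGroup (Fin n) F) :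
      Matrix (Fin n) (Fin n) F) =
      ((s : Matrix.SpecialLinearGroup (Fin n) F) : Matrix (Fin n) (Fin n) F) *
      ((s : Matrix.SpecialLinearGroup (Fin n) F) : Matrix (Fin n) (Fin n) F) *
      ((s : Matrix.SpecialLinearGroup (Fin n) F) : Matrix (Fin n) (Fin n) F) := by
  rw [pow_succ, pow_two]
  rfl

end defs

section main

variable {F : Type*} [Field F] [Fintype F] {F₀ : Type*} [Field F₀] [Fintype F₀]

theorem hqq : (8 : ℕ) = 2 ^ 3 := by norm_num

theorem hr3 : Odd 3 := by decide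

theorem h32 : ¬ ((3 : ℕ) = 3 ∧ (8 : ℕ) = 2) := by omega

/-- The homomorphism from `SU_3(2)` to the automorphism group of `PSU_3(8)`. -/
def theta (hF : Fintype.card F = 8 ^ 2) (hF₀ : Fintype.card F₀ = 2 ^ 2) (j : F₀ →+* F) :
    ↥(Cfsg.SU 3 F₀ 2) →* MulAut (Cfsg.PSU 3 F 8) :=
  ((PSUSplit.cV : ↥(Cfsg.GU 3 F 8) →* MulAut (Cfsg.PSU 3 F 8)).comp
    (PSUField.mapJ hF hF₀ hqq hr3 j)).comp (suGUh 3 F₀ 2)

theorem theta_apply (hF : Fintype.card F = 8 ^ 2) (hF₀ : Fintype.card F₀ = 2 ^ 2) (j : F₀ →+* F)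
    (s : ↥(Cfsg.SU 3 F₀ 2)) :
    theta hF hF₀ j s = PSUSplit.cV (PSUField.mapJ hF hF₀ hqq hr3 j (PSUSplit.suGU s)) := rfl

theorem theta_center (hF : Fintype.card F = 8 ^ 2) (hF₀ : Fintype.card F₀ = 2 ^ 2) (j : F₀ →+* F)
    (z : ↥(Cfsg.SU 3 F₀ 2)) (hz : z ∈ Subgroup.center ↥(Cfsg.SU 3 F₀ 2)) :
    theta hF hF₀ j z = 1 := by
  obtain ⟨Z, hZdef⟩ : ∃ Z : Matrix (Fin 3) (Fin 3) F₀,
      Z = ((z : Matrix.SpecialLinearGroup (Fin 3) F₀) : Matrix (Fin 3) (Fin 3) F₀) := ⟨_, rfl⟩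
  have hZ : ∀ M, IsHermIso 3 F₀ 2 M → M.det = 1 → M * Z = Z * M := by
    intro M hM hdet
    have h1 := Subgroup.mem_center_iff.mp hz (mkSU M hdet hM)
    have h2 := congrArg (fun s : ↥(Cfsg.SU 3 F₀ 2) =>
      ((s : Matrix.SpecialLinearGroup (Fin 3) F₀) : Matrix (Fin 3) (Fin 3) F₀)) h1
    rw [hZdef]
    exact h2
  have hsc := central_scalar hF₀ (by norm_num : 1 ≤ 3) Z hZ
  have hc0 : Z ⟨0, by norm_num⟩ ⟨0, by norm_num⟩ ≠ 0 := by
    intro h0
    rw [h0, zero_smul] at hsc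
    have hdet : Z.det = 1 := by rw [hZdef]; exact (z : Matrix.SpecialLinearGroup (Fin 3) F₀).2
    rw [hsc, Matrix.det_zero] at hdet
    exact zero_ne_one hdet
  have hk : PSUSplit.suGU z ∈ ((PSUSplit.cV : ↥(Cfsg.GU 3 F 8) →* MulAut (Cfsg.PSU 3 F 8)).comp
      (PSUField.mapJ hF hF₀ hqq hr3 j)).ker := by
    rw [PSUField.theta_ker hF (le_refl 3) h32 hF₀ hqq hr3 j, Subgroup.mem_subgroupOf,
      Cfsg.Geo.mem_scalars_iff]
    refine ⟨Units.mk0 _ hc0, ?_⟩
    rw [suGU_mat, ← hZdef, Units.val_mk0]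
    exact hsc
  exact hk

/-- The induced map on `PSU_3(2)`. -/
def thetaBar (hF : Fintype.card F = 8 ^ 2) (hF₀ : Fintype.card F₀ = 2 ^ 2) (j : F₀ →+* F) :
    Cfsg.PSU 3 F₀ 2 →* MulAut (Cfsg.PSU 3 F 8) :=
  QuotientGroup.lift (Subgroup.center ↥(Cfsg.SU 3 F₀ 2)) (theta hF hF₀ j)
    (fun z hz => theta_center hF hF₀ j z hz)

theorem theta_cube (hF : Fintype.card F = 8 ^ 2) (hF₀ : Fintype.card F₀ = 2 ^ 2) (j : F₀ →+* F)
    (s s' : ↥(Cfsg.SU 3 F₀ 2)) (hs : s ^ 3 = 1) (hs' : s' ^ 3 = 1) :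
    (theta hF hF₀ j s' * (theta hF hF₀ j s)⁻¹) ^ 3 = 1 := by
  obtain ⟨N, hNn, -, h3, ⟨e⟩⟩ := Cfsg.Agent.S0827.result (F := F₀) (by rw [hF₀]; norm_num)
  haveI := hNn
  have h := cube_mul_inv_of_quot N h3 e (QuotientGroup.mk s' : Cfsg.PSU 3 F₀ 2)
    (QuotientGroup.mk s) (by rw [← QuotientGroup.mk_pow, hs']; rfl)
    (by rw [← QuotientGroup.mk_pow, hs]; rfl)
  have h1 : theta hF hF₀ j s' * (theta hF hF₀ j s)⁻¹ =
      thetaBar hF hF₀ j ((QuotientGroup.mk s' : Cfsg.PSU 3 F₀ 2) * (QuotientGroup.mk s)⁻¹) := by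
    rw [map_mul, map_inv]
    rfl
  rw [h1, ← map_pow, h, map_one]

theorem theta_mem (hF : Fintype.card F = 8 ^ 2) (hF₀ : Fintype.card F₀ = 2 ^ 2) (j : F₀ →+* F)
    (σ : RingAut F) (hj : IsFixEmb σ j) (hσ : orderOf σ = 3)
    (𝒢 : Subgroup (MulAut (Cfsg.PSU 3 F 8))) (hinn : ∀ k : Cfsg.PSU 3 F 8, MulAut.conj k ∈ 𝒢)
    (s : ↥(Cfsg.SU 3 F₀ 2)) :
    theta hF hF₀ j s ∈ 𝒢 ⊓ Subgroup.centralizer {(PSUAut.fU σ : MulAut (Cfsg.PSU 3 F 8))} := by
  refine ⟨?_, ?_⟩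
  · obtain ⟨S, hS⟩ : ∃ S : ↥(Cfsg.SU 3 F 8),
        PSUSplit.suGU S = PSUField.mapJ hF hF₀ hqq hr3 j (PSUSplit.suGU s) := by
      have hdet : (((s : Matrix.SpecialLinearGroup (Fin 3) F₀) :
          Matrix (Fin 3) (Fin 3) F₀).map j).det = 1 := by
        have h1 := RingHom.map_det j
          ((s : Matrix.SpecialLinearGroup (Fin 3) F₀) : Matrix (Fin 3) (Fin 3) F₀)
        rw [(s : Matrix.SpecialLinearGroup (Fin 3) F₀).2, map_one] at h1
        exact h1.symm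
      refine ⟨mkSU _ hdet (fun u v =>
        (PSUField.mapJ hF hF₀ hqq hr3 j (PSUSplit.suGU s)).2 u v), ?_⟩
      exact Subtype.ext (Units.ext rfl)
    rw [theta_apply, ← hS, PSUSplit.cV_suGU]
    exact hinn _
  · have h1 : theta hF hF₀ j s ∈
        ((PSUSplit.cV : ↥(Cfsg.GU 3 F 8) →* MulAut (Cfsg.PSU 3 F 8)).comp
          (PSUField.mapJ hF hF₀ hqq hr3 j)).range := ⟨PSUSplit.suGU s, rfl⟩
    rw [← PSUField.inf_centralizer_fU hF (le_refl 3) h32 hF₀ hqq hr3 σ j hj hσ] at h1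
    exact h1.2

theorem conj_cV {n q : ℕ} (ρ : RingAut F) (K w : ↥(Cfsg.GU n F q)) :
    (PSUSplit.cV K * PSUAut.fU ρ : MulAut (Cfsg.PSU n F q)) * PSUSplit.cV w *
      (PSUSplit.cV K * PSUAut.fU ρ)⁻¹ = PSUSplit.cV (K * PSUField.mapV ρ w * K⁻¹) := by
  rw [mul_assoc (PSUSplit.cV K), PSUField.fU_cV, map_mul, map_mul, map_inv]
  group

/-- The key consequence of normality of a `3'`-subgroup: an element of it normalizes, up to a
scalar, every element of order `3` coming from `SU_3(2)`. -/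
theorem key_scalar (hF : Fintype.card F = 8 ^ 2) (hF₀ : Fintype.card F₀ = 2 ^ 2) (j : F₀ →+* F)
    (σ : RingAut F) (hj : IsFixEmb σ j) (hσ : orderOf σ = 3)
    (𝒢 : Subgroup (MulAut (Cfsg.PSU 3 F 8))) (hinn : ∀ k : Cfsg.PSU 3 F 8, MulAut.conj k ∈ 𝒢)
    (M : Subgroup (MulAut (Cfsg.PSU 3 F 8)))
    (hnorm : ∀ d ∈ 𝒢 ⊓ Subgroup.centralizer {(PSUAut.fU σ : MulAut (Cfsg.PSU 3 F 8))},
      ∀ a ∈ M, d * a * d⁻¹ ∈ M)
    (hc : (Nat.card M).Coprime 3)
    (k : ↥(Cfsg.GU 3 F₀ 2)) (ρ : RingAut F)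
    (ha : (PSUSplit.cV (PSUField.mapJ hF hF₀ hqq hr3 j k) * PSUAut.fU ρ :
      MulAut (Cfsg.PSU 3 F 8)) ∈ M)
    (s s'' : ↥(Cfsg.SU 3 F₀ 2)) (hs : s ^ 3 = 1) (hs'' : s'' ^ 3 = 1)
    (hρ : (((s : Matrix.SpecialLinearGroup (Fin 3) F₀) : Matrix (Fin 3) (Fin 3) F₀).map j).map ρ =
      ((s'' : Matrix.SpecialLinearGroup (Fin 3) F₀) : Matrix (Fin 3) (Fin 3) F₀).map j) :
    ∃ c : Fˣ, ((k : GL (Fin 3) F₀) : Matrix (Fin 3) (Fin 3) F₀).map j *
        ((s'' : Matrix.SpecialLinearGroup (Fin 3) F₀) : Matrix (Fin 3) (Fin 3) F₀).map j =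
      (c : F) • (((s : Matrix.SpecialLinearGroup (Fin 3) F₀) : Matrix (Fin 3) (Fin 3) F₀).map j *
        ((k : GL (Fin 3) F₀) : Matrix (Fin 3) (Fin 3) F₀).map j) := by
  obtain ⟨a, hadef⟩ : ∃ a : MulAut (Cfsg.PSU 3 F 8),
      a = PSUSplit.cV (PSUField.mapJ hF hF₀ hqq hr3 j k) * PSUAut.fU ρ := ⟨_, rfl⟩
  rw [← hadef] at ha
  obtain ⟨s', hs'def⟩ : ∃ s' : ↥(Cfsg.SU 3 F₀ 2),
      s' = PSUAut.uAut (PSUAut.ofGU (k : GL (Fin 3) F₀) k.2) s'' := ⟨_, rfl⟩
  have hs' : s' ^ 3 = 1 := by rw [hs'def, ← map_pow, hs'', map_one]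
  have hsu : PSUSplit.suGU s' = k * PSUSplit.suGU s'' * k⁻¹ := by
    rw [hs'def]
    exact Subtype.ext (Units.ext rfl)
  have hmv : PSUField.mapV ρ (PSUField.mapJ hF hF₀ hqq hr3 j (PSUSplit.suGU s)) =
      PSUField.mapJ hF hF₀ hqq hr3 j (PSUSplit.suGU s'') :=
    Subtype.ext (Units.ext hρ)
  have e1 : a * theta hF hF₀ j s * a⁻¹ = theta hF hF₀ j s' := by
    rw [hadef, theta_apply, conj_cV, hmv, theta_apply, hsu]
    congr 1
    rw [map_mul, map_mul, map_inv]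
  obtain ⟨c, hcdef⟩ : ∃ c : MulAut (Cfsg.PSU 3 F 8),
      c = a * (theta hF hF₀ j s * a⁻¹ * (theta hF hF₀ j s)⁻¹) := ⟨_, rfl⟩
  have hcM : c ∈ M := by
    rw [hcdef]
    exact M.mul_mem ha (hnorm _ (theta_mem hF hF₀ j σ hj hσ 𝒢 hinn s) _ (M.inv_mem ha))
  have hc' : c = theta hF hF₀ j s' * (theta hF hF₀ j s)⁻¹ := by
    rw [hcdef, ← e1]
    group
  have hc3 : c ^ 3 = 1 := by
    rw [hc']
    exact theta_cube hF hF₀ j s s' hs hs'
  have hc1 : c = 1 := by
    have h1 : orderOf c ∣ 3 := orderOf_dvd_of_pow_eq_one hc3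
    have h2 : orderOf c ∣ Nat.card M := Subgroup.orderOf_dvd_natCard M hcM
    have h3 : orderOf c ∣ 1 := by
      rw [← Nat.Coprime.gcd_eq_one hc]
      exact Nat.dvd_gcd h2 h1
    exact orderOf_eq_one_iff.mp (Nat.dvd_one.mp h3)
  have e2 : theta hF hF₀ j s' = theta hF hF₀ j s := by
    rw [hc1] at hc'
    exact (mul_inv_eq_one.mp hc'.symm)
  rw [theta_apply, theta_apply, PSUSplit.cV_apply, PSUSplit.cV_apply,
    PSUAut.cU_eq_iff hF (le_refl 3) h32] at e2
  obtain ⟨d, hd⟩ := e2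
  refine ⟨d, ?_⟩
  have hd' : (((k : GL (Fin 3) F₀) : Matrix (Fin 3) (Fin 3) F₀) *
      ((s'' : Matrix.SpecialLinearGroup (Fin 3) F₀) : Matrix (Fin 3) (Fin 3) F₀) *
      (((k : GL (Fin 3) F₀)⁻¹ : GL (Fin 3) F₀) : Matrix (Fin 3) (Fin 3) F₀)).map j =
      (d : F) • ((s : Matrix.SpecialLinearGroup (Fin 3) F₀) : Matrix (Fin 3) (Fin 3) F₀).map j := by
    rw [hs'def] at hd
    exact hd
  have hinv : (((k : GL (Fin 3) F₀)⁻¹ : GL (Fin 3) F₀) : Matrix (Fin 3) (Fin 3) F₀).map j *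
      ((k : GL (Fin 3) F₀) : Matrix (Fin 3) (Fin 3) F₀).map j = 1 := by
    rw [← Matrix.map_mul, Units.inv_mul, Matrix.map_one _ (map_zero j) (map_one j)]
  rw [Matrix.map_mul, Matrix.map_mul] at hd'
  calc ((k : GL (Fin 3) F₀) : Matrix (Fin 3) (Fin 3) F₀).map j *
        ((s'' : Matrix.SpecialLinearGroup (Fin 3) F₀) : Matrix (Fin 3) (Fin 3) F₀).map j
      = ((k : GL (Fin 3) F₀) : Matrix (Fin 3) (Fin 3) F₀).map j *
        ((s'' : Matrix.SpecialLinearGroup (Fin 3) F₀) : Matrix (Fin 3) (Fin 3) F₀).map j *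
        ((((k : GL (Fin 3) F₀)⁻¹ : GL (Fin 3) F₀) : Matrix (Fin 3) (Fin 3) F₀).map j *
          ((k : GL (Fin 3) F₀) : Matrix (Fin 3) (Fin 3) F₀).map j) := by
        rw [hinv, Matrix.mul_one]
    _ = _ := by
        rw [← Matrix.mul_assoc, hd', Matrix.smul_mul]

end main

section final

variable {F : Type*} [Field F] [Fintype F] {F₀ : Type*} [Field F₀] [Fintype F₀]

/-- `diag(1, w, w²)` in `SU_3(2)`. -/
def dSU (w : F₀) (hw : w ^ 2 + w + 1 = 0) : ↥(Cfsg.SU 3 F₀ 2) :=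
  mkSU (dg w) (by rw [dg_det, cube_of_root hw])
    (isHermIso_diagonal (dv w) (fun i => dv_pow w (cube_of_root hw) i))

/-- The cyclic permutation matrix in `SU_3(2)`. -/
def pSU (F₀ : Type*) [Field F₀] [Fintype F₀] : ↥(Cfsg.SU 3 F₀ 2) :=
  mkSU (pm F₀) pm_det (isHermIso_perm (finRotate 3))

theorem dSU_cube (w : F₀) (hw : w ^ 2 + w + 1 = 0) : dSU w hw ^ 3 = 1 := by
  apply su_ext
  rw [su_pow_three_mat]
  exact dg_cube (cube_of_root hw)

theorem pSU_cube : pSU F₀ ^ 3 = 1 := by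
  apply su_ext
  rw [su_pow_three_mat]
  exact pm_cube

theorem no_core_aux (hF : Fintype.card F = 8 ^ 2) (hF₀ : Fintype.card F₀ = 2 ^ 2) (j : F₀ →+* F)
    (σ : RingAut F) (hj : IsFixEmb σ j) (hσ : orderOf σ = 3)
    (𝒢 : Subgroup (MulAut (Cfsg.PSU 3 F 8))) (hinn : ∀ k : Cfsg.PSU 3 F 8, MulAut.conj k ∈ 𝒢) :
    ¬ HasCore 3 (𝒢 ⊓ Subgroup.centralizer {(PSUAut.fU σ : MulAut (Cfsg.PSU 3 F 8))}) := by
  rintro ⟨M, hMD, hnorm, hc, hne⟩
  apply hne
  rw [eq_bot_iff]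
  intro a ha
  rw [Subgroup.mem_bot]
  have hF₀4 : Fintype.card F₀ = 4 := by rw [hF₀]; norm_num
  have hF2 : Fintype.card F = 2 ^ 6 := by rw [hF]; norm_num
  have hAut : ∀ β : MulAut (Cfsg.PSU 3 F 8), ∃ (δ φ : MulAut (Cfsg.PSU 3 F 8)) (σ : F ≃+* F),
      Cfsg.IsInnerDiagonalAutPSU δ ∧ Cfsg.IsFieldAutPSUOf σ φ ∧ β = δ * φ :=
    fun β => Cfsg.Agent.S2692.result (p := 2) (f := 3) hqq (by norm_num) hF (le_refl 3) h32 β
  obtain ⟨ρ, u, hu⟩ := PSUOut.twU_exists hF (le_refl 3) hAut a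
  have hcomm : PSUAut.fU σ * a = a * PSUAut.fU σ := by
    have h1 : a ∈ Subgroup.centralizer {(PSUAut.fU σ : MulAut (Cfsg.PSU 3 F 8))} := (hMD ha).2
    rw [Subgroup.mem_centralizer_iff] at h1
    exact h1 _ rfl
  have hρσ : (PSUAut.fU ρ : MulAut (Cfsg.PSU 3 F 8)) * PSUAut.fU σ =
      PSUAut.fU σ * PSUAut.fU ρ := by
    rw [← map_mul, ← map_mul, ringAut_comm hF2 ρ σ]
  have hcu : (PSUSplit.cV u : MulAut (Cfsg.PSU 3 F 8)) * PSUAut.fU σ =
      PSUAut.fU σ * PSUSplit.cV u := by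
    rw [hu] at hcomm
    have h1 : PSUAut.fU σ * PSUSplit.cV u * PSUAut.fU ρ =
        PSUSplit.cV u * PSUAut.fU σ * PSUAut.fU ρ := by
      rw [mul_assoc, hcomm, mul_assoc, hρσ, mul_assoc]
    exact (mul_right_cancel h1).symm
  obtain ⟨k, hk⟩ := PSUField.cent_fU hF (le_refl 3) h32 hF₀ hqq hr3 σ j hj hσ u hcu
  rw [hk] at hu
  have haM : (PSUSplit.cV (PSUField.mapJ hF hF₀ hqq hr3 j k) * PSUAut.fU ρ :
      MulAut (Cfsg.PSU 3 F 8)) ∈ M := by rw [← hu]; exact ha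
  obtain ⟨w, hw⟩ := exists_root_of_card_four hF₀4
  have hjw : (j w) ^ 2 + j w + 1 = 0 := by
    rw [← map_pow, ← map_add, ← map_one j, ← map_add, hw, map_zero]
  obtain ⟨w', hw'⟩ : ∃ w' : F₀, j w' = ρ (j w) := by
    have h2 : σ (j w) = j w := (hj _).mpr ⟨w, rfl⟩
    have h3 : σ (ρ (j w)) = ρ (σ (j w)) :=
      congrArg (fun e : RingAut F => e (j w)) (ringAut_comm hF2 σ ρ)
    have h1 : σ (ρ (j w)) = ρ (j w) := by rw [h3, h2]
    exact (hj _).mp h1
  have hjw' : (j w') ^ 2 + j w' + 1 = 0 := by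
    rw [hw', ← map_pow, ← map_add, ← map_one ρ, ← map_add, hjw, map_zero]
  have hw'root : w' ^ 2 + w' + 1 = 0 := by
    apply j.injective
    rw [map_add, map_add, map_pow, map_one, map_zero]
    exact hjw'
  obtain ⟨Kj, hKj⟩ : ∃ Kj : Matrix (Fin 3) (Fin 3) F,
      Kj = ((k : GL (Fin 3) F₀) : Matrix (Fin 3) (Fin 3) F₀).map j := ⟨_, rfl⟩
  have hK0 : Kj ≠ 0 := by
    rw [hKj]
    exact (Matrix.GeneralLinearGroup.map j (k : GL (Fin 3) F₀)).ne_zero
  obtain ⟨c1, h1⟩ := key_scalar hF hF₀ j σ hj hσ 𝒢 hinn M hnorm hc k ρ haM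
    (dSU w hw) (dSU w' hw'root) (dSU_cube w hw) (dSU_cube w' hw'root)
    (by
      show ((dg w).map j).map ρ = (dg w').map j
      rw [dg_map, dg_map, hw']
      exact dg_map (ρ : F →+* F) (j w))
  obtain ⟨c2, h2⟩ := key_scalar hF hF₀ j σ hj hσ 𝒢 hinn M hnorm hc k ρ haM
    (pSU F₀) (pSU F₀) pSU_cube pSU_cube
    (by
      show ((pm F₀).map j).map ρ = (pm F₀).map j
      rw [pm_map]
      exact pm_map (ρ : F →+* F))
  have h1' : Kj * dg (j w') = (c1 : F) • (dg (j w) * Kj) := by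
    rw [hKj, ← dg_map, ← dg_map]
    exact h1
  have h2' : Kj * pm F = (c2 : F) • (pm F * Kj) := by
    rw [hKj, ← pm_map j]
    exact h2
  have hjeq : j w' = j w := root_eq_of_conj Kj hK0 hjw hjw' c1 c2 h1' h2'
  have hρw : ρ (j w) = j w := by rw [← hw', hjeq]
  have hfix : ∀ c : F, σ c = c → ρ c = c := by
    intro c hc'
    obtain ⟨b, rfl⟩ := (hj c).mp hc'
    rcases mem_four hF₀4 hw b with rfl | rfl | rfl | rfl
    · rw [map_zero, map_zero]
    · rw [map_neg, map_one, map_neg, map_one]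
    · rw [map_neg, map_neg, hρw]
    · rw [map_sub, map_neg, map_one, map_sub, map_neg, map_one, hρw]
  have hρz := mem_zpowers_of_fix σ ρ hfix
  have hρ3 : ρ ^ 3 = 1 := by
    obtain ⟨m, rfl⟩ := Subgroup.mem_zpowers_iff.mp hρz
    rw [← zpow_natCast, ← _root_.zpow_mul, mul_comm, _root_.zpow_mul, zpow_natCast, ← hσ,
      pow_orderOf_eq_one, _root_.one_zpow]
  have hw1 : j w ≠ 1 := by
    intro h
    have h3 : w = 1 := j.injective (by rw [h, map_one])
    exact root_ne_one hw (three_ne_zero_of_card_four hF₀4) h3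
  rw [hjeq] at h1'
  obtain ⟨c3, h3⟩ := cube_scalar_of_conj Kj hK0 hjw hw1 c1 c2 h1' h2'
  have hU : Matrix.GeneralLinearGroup.map (ρ : F →+* F)
      (Matrix.GeneralLinearGroup.map j (k : GL (Fin 3) F₀)) =
      Matrix.GeneralLinearGroup.map j (k : GL (Fin 3) F₀) := by
    apply Units.ext
    ext x y
    show ρ (j (((k : GL (Fin 3) F₀) : Matrix (Fin 3) (Fin 3) F₀) x y)) =
      j (((k : GL (Fin 3) F₀) : Matrix (Fin 3) (Fin 3) F₀) x y)
    exact hfix _ ((hj _).mpr ⟨_, rfl⟩)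
  have ha3 : a ^ 3 = 1 := by
    rw [hu, PSUField.pow_cV_fU, hρ3, map_one, mul_one, PSUSplit.cV_apply]
    apply PSUAut.cU_of_scalar _ c3
    show ((nrm ρ (Matrix.GeneralLinearGroup.map j (k : GL (Fin 3) F₀)) 3 : GL (Fin 3) F) :
      Matrix (Fin 3) (Fin 3) F) = c3 • (1 : Matrix (Fin 3) (Fin 3) F)
    rw [nrm_succ, nrm_succ, nrm_succ, nrm_zero, map_one, mul_one, hU, map_mul, hU,
      Units.val_mul, Units.val_mul, ← Matrix.mul_assoc]
    rw [hKj] at h3
    exact h3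
  have h4 : orderOf a ∣ 3 := orderOf_dvd_of_pow_eq_one ha3
  have h5 : orderOf a ∣ Nat.card M := Subgroup.orderOf_dvd_natCard M ha
  have h6 : orderOf a ∣ 1 := by
    rw [← Nat.Coprime.gcd_eq_one hc]
    exact Nat.dvd_gcd h5 h4
  exact orderOf_eq_one_iff.mp (Nat.dvd_one.mp h6)

end final

/-- **Package P1 of S2687.** For `PSU_3(8)` and a field automorphism `σ` of order `3`, the
centralizer of the standard field automorphism in any group of automorphisms containing the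
inner ones has no non-trivial normal subgroup of order prime to `3`. -/
theorem no_core_three_eight {F : Type*} [Field F] [Fintype F] (hF : Fintype.card F = 8 ^ 2)
    (σ : RingAut F) (hσ : orderOf σ = 3)
    (𝒢 : Subgroup (MulAut (Cfsg.PSU 3 F 8)))
    (hinn : ∀ k : Cfsg.PSU 3 F 8, MulAut.conj k ∈ 𝒢) :
    ¬ HasCore 3 (𝒢 ⊓ Subgroup.centralizer {(PSUAut.fU σ : MulAut (Cfsg.PSU 3 F 8))}) := by
  classical
  haveI : Fintype ↥(fixF σ) := Fintype.ofFinite _
  have hj : IsFixEmb σ (fixF σ).subtype := PSUField.isFixEmb_subtype σ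
  have hF₀ : Fintype.card ↥(fixF σ) = 2 ^ 2 := by
    have h := (PSUField.fix_data (p := 2) (f := 3) hqq hF σ Nat.prime_three hr3 hσ).2.1
    rw [Nat.card_eq_fintype_card] at h
    rw [h]
    norm_num
  exact no_core_aux hF hF₀ (fixF σ).subtype σ hj hσ 𝒢 hinn

end Cfsg.Agent.Lib.Helper74.PSUBal38
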