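import Mathlib
import Cfsg.Agent.Lib.Lead.PRegularCount

/-!
# A fixed point count for pairs

For a Sylow `p`-subgroup `P` of `G` and a subgroup `L` normalized by `P`, the number of pairs
`(a, b)` with `a` a `p`-element, `b` a `p`-regular element and `a b` a `p`-regular element of `L`
is prime to `p`.
-/

set_option autoImplicit false

namespace Cfsg.Agent.Lib.Helper74.LemmaL

open Subgroup

section Count

variable {G : Type*} [Group G]

/-- The pairs `(a, b)`: `a` a `p`-element, `b` `p`-regular, `a b ∈ L` `p`-regular. -/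
abbrev Pairs (p : ℕ) (L : Subgroup G) : Type _ :=
  {xy : G × G // (∃ k : ℕ, orderOf xy.1 = p ^ k) ∧ ¬ p ∣ orderOf xy.2 ∧ xy.1 * xy.2 ∈ L ∧
    ¬ p ∣ orderOf (xy.1 * xy.2)}

/-- Simultaneous conjugation on pairs. -/
@[reducible] def conjActPairs (P L : Subgroup G) (p : ℕ)
    (hPL : ∀ x ∈ P, ∀ l ∈ L, x * l * x⁻¹ ∈ L) : MulAction P (Pairs p L) where
  smul x q := ⟨((x : G) * q.1.1 * (x : G)⁻¹, (x : G) * q.1.2 * (x : G)⁻¹), by
    obtain ⟨⟨a, b⟩, ⟨k, hk⟩, hb, hL, hab⟩ := q
    have h1 : orderOf ((x : G) * a * (x : G)⁻¹) = orderOf a := (MulAut.conj (x : G)).orderOf_eq a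
    have h2 : orderOf ((x : G) * b * (x : G)⁻¹) = orderOf b := (MulAut.conj (x : G)).orderOf_eq b
    have h3 : (x : G) * a * (x : G)⁻¹ * ((x : G) * b * (x : G)⁻¹) = (x : G) * (a * b) * (x : G)⁻¹ := by
      group
    have h4 : orderOf ((x : G) * (a * b) * (x : G)⁻¹) = orderOf (a * b) :=
      (MulAut.conj (x : G)).orderOf_eq (a * b)
    refine ⟨⟨k, ?_⟩, ?_, ?_, ?_⟩
    · show orderOf ((x : G) * a * (x : G)⁻¹) = p ^ k
      rw [h1]; exact hk
    · show ¬ p ∣ orderOf ((x : G) * b * (x : G)⁻¹)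
      rw [h2]; exact hb
    · show (x : G) * a * (x : G)⁻¹ * ((x : G) * b * (x : G)⁻¹) ∈ L
      rw [h3]; exact hPL x x.2 _ hL
    · show ¬ p ∣ orderOf ((x : G) * a * (x : G)⁻¹ * ((x : G) * b * (x : G)⁻¹))
      rw [h3, h4]; exact hab⟩
  one_smul q := by
    apply Subtype.ext
    apply Prod.ext
    · show ((1 : P) : G) * q.1.1 * ((1 : P) : G)⁻¹ = q.1.1
      simp
    · show ((1 : P) : G) * q.1.2 * ((1 : P) : G)⁻¹ = q.1.2
      simp
  mul_smul x y q := by
    apply Subtype.ext
    apply Prod.ext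
    · show ((x * y : P) : G) * q.1.1 * ((x * y : P) : G)⁻¹ =
        (x : G) * ((y : G) * q.1.1 * (y : G)⁻¹) * (x : G)⁻¹
      simp [mul_assoc]
    · show ((x * y : P) : G) * q.1.2 * ((x * y : P) : G)⁻¹ =
        (x : G) * ((y : G) * q.1.2 * (y : G)⁻¹) * (x : G)⁻¹
      simp [mul_assoc]

/-- A `p`-element commuting with a `p`-regular element, with `p`-regular product, is trivial. -/
theorem eq_one_of_commute_of_pRegular_mul {p : ℕ} (hp : p.Prime) {a b : G} (hab : Commute a b)
    {k : ℕ} (ha : orderOf a = p ^ k) (hb : ¬ p ∣ orderOf b) (h : ¬ p ∣ orderOf (a * b)) :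
    a = 1 := by
  set n := orderOf b with hn
  have h1 : (a * b) ^ n = a ^ n := by
    rw [hab.mul_pow, hn, pow_orderOf_eq_one, mul_one]
  have hcop : (orderOf a).Coprime n := by
    rw [ha]
    exact Nat.Coprime.pow_left k ((Nat.Prime.coprime_iff_not_dvd hp).mpr hb)
  have h2 : orderOf (a ^ n) = orderOf a := hcop.orderOf_pow
  have h3 : orderOf ((a * b) ^ n) ∣ orderOf (a * b) := orderOf_pow_dvd n
  rw [h1, h2, ha] at h3
  have hk : k = 0 := by
    by_contra hk
    exact h ((dvd_pow_self p hk).trans h3)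
  rw [hk, pow_zero] at ha
  exact orderOf_eq_one_iff.mp ha

/-- A `p`-element centralizing a Sylow `p`-subgroup lies in it. -/
theorem mem_sylow_of_mem_centralizer [Finite G] {p : ℕ} [Fact p.Prime] (P : Sylow p G) {x : G}
    (hx : x ∈ centralizer ((P : Subgroup G) : Set G)) {k : ℕ} (hk : x ^ p ^ k = 1) :
    x ∈ (P : Subgroup G) := by
  have hzp : IsPGroup p (zpowers x) := by
    rw [IsPGroup.iff_card, Nat.card_zpowers]
    obtain ⟨j, -, hj'⟩ := (Nat.dvd_prime_pow (Fact.out : p.Prime)).mp (orderOf_dvd_of_pow_eq_one hk)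
    exact ⟨j, hj'⟩
  have hle : zpowers x ≤ normalizer ((P : Subgroup G) : Set G) := by
    rw [zpowers_le]
    exact Subgroup.centralizer_le_normalizer _ hx
  have hsup : IsPGroup p ((P : Subgroup G) ⊔ zpowers x : Subgroup G) :=
    IsPGroup.to_sup_of_normal_left' P.isPGroup' hzp hle
  have heq := P.is_maximal' hsup le_sup_left
  have : x ∈ (P : Subgroup G) ⊔ zpowers x := (le_sup_right : zpowers x ≤ _) (mem_zpowers x)
  rw [heq] at this
  exact this

/-- **The fixed point count.** -/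
theorem not_dvd_card_pairs [Finite G] (p : ℕ) [Fact p.Prime] (P : Sylow p G) (L : Subgroup G)
    (hPL : ∀ x ∈ (P : Subgroup G), ∀ l ∈ L, x * l * x⁻¹ ∈ L) :
    ¬ p ∣ Nat.card (Pairs p L) := by
  classical
  have hp : p.Prime := Fact.out
  let _ : MulAction (P : Subgroup G) (Pairs p L) := conjActPairs (P : Subgroup G) L p hPL
  have hmod := P.isPGroup'.card_modEq_card_fixedPoints (Pairs p L)
  set C : Subgroup G := centralizer ((P : Subgroup G) : Set G) with hC
  have hsmul : ∀ (x : (P : Subgroup G)) (q : Pairs p L),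
      ((x • q : Pairs p L) : G × G) =
        ((x : G) * q.1.1 * (x : G)⁻¹, (x : G) * q.1.2 * (x : G)⁻¹) := fun _ _ => rfl
  have hcent : ∀ g : G, (∀ x : (P : Subgroup G), (x : G) * g * (x : G)⁻¹ = g) ↔ g ∈ C := by
    intro g
    rw [hC, mem_centralizer_iff]
    constructor
    · intro h x hx
      have h2 := h ⟨x, hx⟩
      calc x * g = x * g * x⁻¹ * x := by group
        _ = g * x := by rw [h2]
    · intro h x
      have h2 := h (x : G) x.2
      rw [h2, mul_inv_cancel_right]
  have hfix : ∀ q : Pairs p L,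
      q ∈ MulAction.fixedPoints (P : Subgroup G) (Pairs p L) ↔ q.1.1 = 1 ∧ q.1.2 ∈ C := by
    intro q
    rw [MulAction.mem_fixedPoints]
    constructor
    · intro h
      have ha : q.1.1 ∈ C := (hcent _).mp (fun x => by
        have h1 := congrArg (fun z : Pairs p L => z.1.1) (h x)
        exact h1)
      have hb : q.1.2 ∈ C := (hcent _).mp (fun x => by
        have h1 := congrArg (fun z : Pairs p L => z.1.2) (h x)
        exact h1)
      refine ⟨?_, hb⟩
      obtain ⟨k, hk⟩ := q.2.1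
      have haP : q.1.1 ∈ (P : Subgroup G) :=
        mem_sylow_of_mem_centralizer P ha (k := k) (by rw [← hk]; exact pow_orderOf_eq_one _)
      have hcomm : Commute q.1.1 q.1.2 := mem_centralizer_iff.mp hb q.1.1 haP
      exact eq_one_of_commute_of_pRegular_mul hp hcomm hk q.2.2.1 q.2.2.2.2
    · rintro ⟨h1, h2⟩ x
      apply Subtype.ext
      rw [hsmul]
      apply Prod.ext
      · show (x : G) * q.1.1 * (x : G)⁻¹ = q.1.1
        rw [h1]; simp
      · show (x : G) * q.1.2 * (x : G)⁻¹ = q.1.2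
        exact (hcent _).mpr h2 x
  let e : MulAction.fixedPoints (P : Subgroup G) (Pairs p L) ≃
      {c : ↥(C ⊓ L) // ¬ p ∣ orderOf c} :=
    { toFun := fun q => ⟨⟨q.1.1.2, ((hfix q.1).mp q.2).2, by
          have h1 := q.1.2.2.2.1
          rw [((hfix q.1).mp q.2).1, one_mul] at h1
          exact h1⟩, by
        rw [← Subgroup.orderOf_coe]; exact q.1.2.2.1⟩
      invFun := fun c => ⟨⟨((1 : G), (c.1 : G)), ⟨0, by simp⟩, by
          have := c.2; rwa [← Subgroup.orderOf_coe] at this, by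
          show (1 : G) * (c.1 : G) ∈ L
          rw [one_mul]; exact c.1.2.2, by
          show ¬ p ∣ orderOf ((1 : G) * (c.1 : G))
          rw [one_mul]
          have := c.2; rwa [← Subgroup.orderOf_coe] at this⟩,
        (hfix _).mpr ⟨rfl, c.1.2.1⟩⟩
      left_inv := fun q => by
        apply Subtype.ext
        apply Subtype.ext
        apply Prod.ext
        · exact ((hfix q.1).mp q.2).1.symm
        · rfl
      right_inv := fun c => rfl }
  have hcard : Nat.card (MulAction.fixedPoints (P : Subgroup G) (Pairs p L)) =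
      Nat.card {c : ↥(C ⊓ L) // ¬ p ∣ orderOf c} := Nat.card_congr e
  have hC0 : ¬ p ∣ Nat.card {c : ↥(C ⊓ L) // ¬ p ∣ orderOf c} := by
    apply Cfsg.Agent.Lib.Lead.not_dvd_card_pRegular_of_central ((P : Subgroup G).subgroupOf (C ⊓ L))
    · intro z hz h
      apply Subtype.ext
      have hz' : (z : G) ∈ (P : Subgroup G) := mem_subgroupOf.mp hz
      have := mem_centralizer_iff.mp h.2.1 (z : G) hz'
      exact this
    · exact P.isPGroup'.comap_subtype
    · rintro ⟨x, hx⟩ ⟨k, hk⟩
      rw [mem_subgroupOf]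
      show x ∈ (P : Subgroup G)
      have hk' : x ^ p ^ k = 1 := by simpa using congrArg Subtype.val hk
      exact mem_sylow_of_mem_centralizer P hx.1 hk'
  intro hd
  have h1 : Nat.card (Pairs p L) % p = 0 := Nat.mod_eq_zero_of_dvd hd
  have h2 : Nat.card {c : ↥(C ⊓ L) // ¬ p ∣ orderOf c} % p = 0 := by
    rw [← hcard, ← hmod, h1]
  exact hC0 (Nat.dvd_of_mod_eq_zero h2)

end Count

end Cfsg.Agent.Lib.Helper74.LemmaL
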