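import Mathlib
import Cfsg.Prelude.Def_Blocks
import Cfsg.Agent.Lib.Lead.Kulshammer
import Cfsg.Agent.Lib.Helper77.Osima
import Cfsg.Agent.Lib.Helper77.IdemCalc
import Cfsg.Agent.Lib.Helper80.CharOps
import Cfsg.Agent.Lib.Helper80.CharKer
import Cfsg.Agent.Lib.Helper74.LemmaLCount

/-!
# Lemma (L): principal blocks and subgroups normalized by a Sylow subgroup

Let `P` be a Sylow `p`-subgroup of `G`, `L ≤ G` a subgroup normalized by `P` and `ψ` an irreducible
character in the principal block of `L`.  Then some `χ` in the principal block of `G` lies over `ψ`;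
if moreover `p ∤ [G : L] ψ(1)` then `χ` can be taken of degree prime to `p`.

Proof: with `e` the coefficient function of the principal block idempotent of `G`,
`∑_{χ ∈ B₀(G)} χ(1) ⟨χ|_L, ψ⟩ = [G : L] ∑_{x ∈ L} e(x) ψ(x) = [G : L] ψ(1) ω_ψ(e|_L)`, and
`ω_ψ(e|_L) ≡ ∑_{x ∈ L} e(x) ≡ T / R` modulo the local ideal (Osima, Külshammer), where `T` is the
number of pairs counted in `LemmaLCount`, which is prime to `p`.
-/

set_option autoImplicit false
set_option linter.unusedSectionVars false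

namespace Cfsg.Agent.Lib.Helper74.LemmaL

open Cfsg Cfsg.Agent.Lib.Helper16 Cfsg.Agent.Lib.Helper77 Cfsg.Agent.Lib.Helper81
open scoped ComplexConjugate

section Main

variable {G : Type*} [Group G] [Finite G]

/-- `∑_{x ∈ L} e(x) ≡ T / R`. -/
theorem sum_blockCoeff_sub (p : ℕ) [Fact p.Prime] (M : Ideal Cfsg.AlgInt)
    (hM : Cfsg.IsPModular p M) (L : Subgroup G) [Fintype L] :
    Cfsg.MemLocalIdeal M ((∑ x : L, Cfsg.blockCoeff (Cfsg.principalBlock M G) (x : G)) -
      (Nat.card (Pairs p L) : ℂ) / (Nat.card {y : G // ¬ p ∣ orderOf y} : ℂ)) := by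
  classical
  let _ := Fintype.ofFinite G
  have hPr := isPrime_of_isPModular hM
  set R := Nat.card {y : G // ¬ p ∣ orderOf y} with hR
  let N : G → ℕ := fun g => Nat.card {xy : G × G // (∃ k : ℕ, orderOf xy.1 = p ^ k) ∧
    ¬ p ∣ orderOf xy.2 ∧ xy.1 * xy.2 = g}
  have hcount : Nat.card (Pairs p L) =
      ∑ x : L, (if p ∣ orderOf (x : G) then 0 else N (x : G)) := by
    rw [Nat.card_eq_fintype_card, Fintype.card_subtype]
    set S : Finset (G × G) := Finset.univ.filter (fun xy : G × G =>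
      (∃ k : ℕ, orderOf xy.1 = p ^ k) ∧ ¬ p ∣ orderOf xy.2 ∧ xy.1 * xy.2 ∈ L ∧
        ¬ p ∣ orderOf (xy.1 * xy.2)) with hS
    set T : Finset G := (Finset.univ.filter (fun g : G => g ∈ L)).filter
      (fun g : G => ¬ p ∣ orderOf g) with hT
    have h1 : S.card = ∑ g ∈ T, (S.filter (fun xy : G × G => xy.1 * xy.2 = g)).card := by
      apply Finset.card_eq_sum_card_fiberwise
      intro xy hxy
      rw [hS, Finset.mem_coe, Finset.mem_filter] at hxy
      rw [hT, Finset.mem_coe, Finset.mem_filter, Finset.mem_filter]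
      exact ⟨⟨Finset.mem_univ _, hxy.2.2.2.1⟩, hxy.2.2.2.2⟩
    have h2 : ∀ g ∈ T, (S.filter (fun xy : G × G => xy.1 * xy.2 = g)).card = N g := by
      intro g hg
      rw [hT, Finset.mem_filter, Finset.mem_filter] at hg
      show _ = Nat.card {xy : G × G // (∃ k : ℕ, orderOf xy.1 = p ^ k) ∧
        ¬ p ∣ orderOf xy.2 ∧ xy.1 * xy.2 = g}
      rw [Nat.card_eq_fintype_card, Fintype.card_subtype]
      congr 1
      ext xy
      simp only [hS, Finset.mem_filter, Finset.mem_univ, true_and]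
      constructor
      · rintro ⟨⟨h1, h2, -, -⟩, h5⟩
        exact ⟨h1, h2, h5⟩
      · rintro ⟨h1, h2, h5⟩
        exact ⟨⟨h1, h2, by rw [h5]; exact hg.1.2, by rw [h5]; exact hg.2⟩, h5⟩
    rw [h1, Finset.sum_congr rfl h2, hT, Finset.sum_filter]
    rw [Finset.sum_subtype (Finset.univ.filter (fun g : G => g ∈ L))
      (p := fun g : G => g ∈ L) (by intro x; simp)]
    refine Finset.sum_congr rfl (fun x _ => ?_)
    by_cases hx : p ∣ orderOf (x : G)
    · rw [if_pos hx, if_neg (not_not.mpr hx)]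
    · rw [if_neg hx, if_pos hx]
  rw [hcount]
  push_cast
  rw [Finset.sum_div, ← Finset.sum_sub_distrib]
  apply memLocalIdeal_sum hPr
  intro x _
  by_cases hx : p ∣ orderOf (x : G)
  · rw [if_pos hx, blockCoeff_eq_zero_of_singular hM _ (isPBlock_principalBlock M) hx]
    simp only [zero_div, sub_zero]
    exact memLocalIdeal_zero hPr
  · rw [if_neg hx]
    exact Cfsg.Agent.Lib.Lead.kulshammer p M hM (x : G) hx

/-- The central character of `ψ ∈ B₀(L)` at the restriction of the principal block idempotent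
of `G` is a unit of the local ring. -/
theorem unit_omega (p : ℕ) [Fact p.Prime] (M : Ideal Cfsg.AlgInt) (hM : Cfsg.IsPModular p M)
    (P : Sylow p G) (L : Subgroup G) [Fintype L]
    (hPL : ∀ x ∈ (P : Subgroup G), ∀ l ∈ L, x * l * x⁻¹ ∈ L)
    (ψ : Cfsg.IrrCharacter L) (hψ : ψ ∈ Cfsg.principalBlock M L) :
    ¬ Cfsg.MemLocalIdeal M ((∑ x : L, Cfsg.blockCoeff (Cfsg.principalBlock M G) (x : G) *
        (ψ : L → ℂ) x) / (ψ : L → ℂ) 1) := by
  classical
  let _ := Fintype.ofFinite G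
  have hPr := isPrime_of_isPModular hM
  set e := Cfsg.blockCoeff (Cfsg.principalBlock M G) with he
  obtain ⟨heR, hecf, -⟩ := blockCoeff_spec hPr (Cfsg.principalBlock M G)
    (isPBlock_principalBlock M)
  let a : L → ℂ := fun x => e (x : G)
  have haR : ∀ x, Cfsg.MemLocalRing M (a x) := fun x => heR (x : G)
  have hacf : Cfsg.IsClassFunction L a := fun g h => by
    show e ((h * g * h⁻¹ : L) : G) = e (g : G)
    rw [Subgroup.coe_mul, Subgroup.coe_mul, Subgroup.coe_inv]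
    exact hecf (g : G) (h : G)
  have hsb : Cfsg.SameBlock M (trivIrr L : L → ℂ) (ψ : L → ℂ) := hψ
  have h1 := memLocalIdeal_omegaF_sub hPr hsb haR hacf
  have h2 : omegaF (trivIrr L : L → ℂ) a = ∑ x : L, e (x : G) := by
    unfold omegaF
    simp [trivIrr_apply, a]
  have h3 : omegaF (ψ : L → ℂ) a =
      (∑ x : L, e (x : G) * (ψ : L → ℂ) x) / (ψ : L → ℂ) 1 := rfl
  rw [h2, h3] at h1
  have h4 := sum_blockCoeff_sub p M hM L
  rw [← he] at h4
  set T := Nat.card (Pairs p L) with hT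
  set R := Nat.card {y : G // ¬ p ∣ orderOf y} with hR
  have hTp : ¬ p ∣ T := not_dvd_card_pairs p P L hPL
  have hRp : ¬ p ∣ R := Cfsg.Agent.Lib.Lead.not_dvd_card_pRegular p
  have hR0 : (R : ℂ) ≠ 0 := by
    have : R ≠ 0 := fun h0 => hRp (h0 ▸ dvd_zero p)
    exact_mod_cast this
  set U := (∑ x : L, e (x : G) * (ψ : L → ℂ) x) / (ψ : L → ℂ) 1 with hU
  intro hUI
  have h5 : Cfsg.MemLocalIdeal M ((T : ℂ) / (R : ℂ)) := by
    have h6 := memLocalIdeal_add hPr (memLocalIdeal_sub hPr h1 h4) hUI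
    have e1 : (∑ x : L, e (x : G)) - U - ((∑ x : L, e (x : G)) - (T : ℂ) / (R : ℂ)) + U =
        (T : ℂ) / (R : ℂ) := by ring
    rw [e1] at h6
    exact h6
  have h7 := memLocalIdeal_mul_left hPr (memLocalRing_natCast hPr R) h5
  have e2 : (R : ℂ) * ((T : ℂ) / (R : ℂ)) = (T : ℂ) := by field_simp
  rw [e2] at h7
  exact hTp ((memLocalIdeal_natCast_iff hM T).mp h7)

/-- Frobenius reciprocity against the block idempotent. -/
theorem sum_deg_mul_inner [Fintype G] (L : Subgroup G) [Fintype L]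
    (B : Set (Cfsg.IrrCharacter G)) (ψ : Cfsg.IrrCharacter L) :
    ∑ᶠ χ ∈ B, (χ : G → ℂ) 1 * Cfsg.classInner (fun x : L => (χ : G → ℂ) x) (ψ : L → ℂ) =
      (L.index : ℂ) * ∑ x : L, Cfsg.blockCoeff B (x : G) * (ψ : L → ℂ) x := by
  classical
  haveI : Fintype (Cfsg.IrrCharacter G) := Fintype.ofFinite _
  have hswap : ∀ χ : Cfsg.IrrCharacter G,
      ∑ x : L, (χ : G → ℂ) x * conj ((ψ : L → ℂ) x) =
        ∑ x : L, conj ((χ : G → ℂ) x) * (ψ : L → ℂ) x := by
    intro χ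
    apply Fintype.sum_equiv (Equiv.inv L)
    intro x
    simp only [Equiv.inv_apply]
    rw [Subgroup.coe_inv, irr_inv χ, irr_inv ψ, Complex.conj_conj]
  have hL : (Nat.card L : ℂ)⁻¹ = (L.index : ℂ) * (Nat.card G : ℂ)⁻¹ := by
    have h := Subgroup.index_mul_card L
    have hL0 : (Nat.card L : ℂ) ≠ 0 := by exact_mod_cast (Nat.card_pos (α := L)).ne'
    have hG0 : (Nat.card G : ℂ) ≠ 0 := by exact_mod_cast (Nat.card_pos (α := G)).ne'
    have hI0 : (L.index : ℂ) ≠ 0 := by exact_mod_cast (Subgroup.index_ne_zero_of_finite (H := L))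
    rw [← h]
    push_cast
    field_simp
  unfold Cfsg.blockCoeff Cfsg.classInner
  rw [finsum_mem_eq_sum_ite]
  simp_rw [finsum_mem_eq_sum_ite, Finset.mul_sum, Finset.sum_mul, Finset.mul_sum]
  rw [Finset.sum_comm]
  refine Finset.sum_congr rfl (fun χ _ => ?_)
  by_cases hχ : χ ∈ B
  · simp only [if_pos hχ]
    rw [hL, ← Finset.mul_sum, ← Finset.mul_sum, hswap χ, Finset.mul_sum, Finset.mul_sum]
    refine Finset.sum_congr rfl (fun x _ => ?_)
    ring
  · simp only [if_neg hχ]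
    simp

/-- **Lemma (L), first form.**  Some character of the principal block of `G` lies over `ψ`. -/
theorem exists_over (p : ℕ) [Fact p.Prime] (M : Ideal Cfsg.AlgInt) (hM : Cfsg.IsPModular p M)
    (P : Sylow p G) (L : Subgroup G) [Fintype L]
    (hPL : ∀ x ∈ (P : Subgroup G), ∀ l ∈ L, x * l * x⁻¹ ∈ L)
    (ψ : Cfsg.IrrCharacter L) (hψ : ψ ∈ Cfsg.principalBlock M L) :
    ∃ χ : Cfsg.IrrCharacter G, χ ∈ Cfsg.principalBlock M G ∧
      Cfsg.classInner (fun x : L => (χ : G → ℂ) x) (ψ : L → ℂ) ≠ 0 := by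
  classical
  let _ := Fintype.ofFinite G
  have hPr := isPrime_of_isPModular hM
  have hU := unit_omega p M hM P L hPL ψ hψ
  have hF := sum_deg_mul_inner L (Cfsg.principalBlock M G) ψ
  by_contra hcon
  push Not at hcon
  have h0 : ∑ᶠ χ ∈ Cfsg.principalBlock M G, (χ : G → ℂ) 1 *
      Cfsg.classInner (fun x : L => (χ : G → ℂ) x) (ψ : L → ℂ) = 0 := by
    apply finsum_mem_eq_zero_of_forall_eq_zero
    intro χ hχ
    rw [hcon χ hχ, mul_zero]
  rw [h0] at hF
  have hI0 : (L.index : ℂ) ≠ 0 := by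
    exact_mod_cast (Subgroup.index_ne_zero_of_finite (H := L))
  have hs : ∑ x : L, Cfsg.blockCoeff (Cfsg.principalBlock M G) (x : G) * (ψ : L → ℂ) x = 0 := by
    rcases mul_eq_zero.mp hF.symm with h | h
    · exact absurd h hI0
    · exact h
  rw [hs, zero_div] at hU
  exact hU (memLocalIdeal_zero hPr)

/-- **Lemma (L), second form.**  If `p ∤ [G : L] ψ(1)`, some character of degree prime to `p` of
the principal block of `G` lies over `ψ`. -/
theorem exists_over_pPrime (p : ℕ) [Fact p.Prime] (M : Ideal Cfsg.AlgInt)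
    (hM : Cfsg.IsPModular p M)
    (P : Sylow p G) (L : Subgroup G) [Fintype L]
    (hPL : ∀ x ∈ (P : Subgroup G), ∀ l ∈ L, x * l * x⁻¹ ∈ L)
    (ψ : Cfsg.IrrCharacter L) (hψ : ψ ∈ Cfsg.principalBlock M L)
    (hidx : ¬ p ∣ L.index) (hdeg : ¬ p ∣ Cfsg.charDegree (ψ : L → ℂ)) :
    ∃ χ : Cfsg.IrrCharacter G, χ ∈ Cfsg.principalBlock M G ∧
      ¬ p ∣ Cfsg.charDegree (χ : G → ℂ) ∧
      Cfsg.classInner (fun x : L => (χ : G → ℂ) x) (ψ : L → ℂ) ≠ 0 := by
  classical
  let _ := Fintype.ofFinite G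
  haveI : Fintype (Cfsg.IrrCharacter G) := Fintype.ofFinite _
  have hPr := isPrime_of_isPModular hM
  have hp : p.Prime := Fact.out
  have hU := unit_omega p M hM P L hPL ψ hψ
  have hF := sum_deg_mul_inner L (Cfsg.principalBlock M G) ψ
  by_contra hcon
  push Not at hcon
  have hm : ∀ χ : Cfsg.IrrCharacter G, ∃ m : ℕ,
      Cfsg.classInner (fun x : L => (χ : G → ℂ) x) (ψ : L → ℂ) = m := fun χ =>
    Cfsg.Agent.Lib.Helper80.classInner_nat
      (Cfsg.Agent.Lib.Helper80.isCharacter_restrict L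
        (Cfsg.Agent.Lib.Helper80.isCharacter_of_isIrrCharacter χ.2))
      (Cfsg.Agent.Lib.Helper80.isCharacter_of_isIrrCharacter ψ.2)
  choose m hm using hm
  have hdvd : ∀ χ ∈ Cfsg.principalBlock M G, p ∣ Cfsg.charDegree (χ : G → ℂ) * m χ := by
    intro χ hχ
    by_cases h : p ∣ Cfsg.charDegree (χ : G → ℂ)
    · exact h.mul_right _
    · have h1 := hcon χ hχ h
      rw [hm χ] at h1
      have h2 : m χ = 0 := by exact_mod_cast h1
      rw [h2, mul_zero]; exact dvd_zero p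
  have hsum : ∑ᶠ χ ∈ Cfsg.principalBlock M G, (χ : G → ℂ) 1 *
      Cfsg.classInner (fun x : L => (χ : G → ℂ) x) (ψ : L → ℂ) =
      ((∑ χ : Cfsg.IrrCharacter G, if χ ∈ Cfsg.principalBlock M G then
        Cfsg.charDegree (χ : G → ℂ) * m χ else 0 : ℕ) : ℂ) := by
    rw [finsum_mem_eq_sum_ite]
    push_cast
    refine Finset.sum_congr rfl (fun χ _ => ?_)
    by_cases hχ : χ ∈ Cfsg.principalBlock M G
    · rw [if_pos hχ, if_pos hχ, hm χ, Cfsg.Agent.Lib.Helper80.char_one_eq_charDegree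
        (Cfsg.Agent.Lib.Helper80.isCharacter_of_isIrrCharacter χ.2)]
    · rw [if_neg hχ, if_neg hχ]
  have hdvd2 : p ∣ ∑ χ : Cfsg.IrrCharacter G, if χ ∈ Cfsg.principalBlock M G then
        Cfsg.charDegree (χ : G → ℂ) * m χ else 0 := by
    apply Finset.dvd_sum
    intro χ _
    split_ifs with h
    · exact hdvd χ h
    · exact dvd_zero p
  have hI : Cfsg.MemLocalIdeal M (∑ᶠ χ ∈ Cfsg.principalBlock M G, (χ : G → ℂ) 1 *
      Cfsg.classInner (fun x : L => (χ : G → ℂ) x) (ψ : L → ℂ)) := by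
    rw [hsum]
    exact (memLocalIdeal_natCast_iff hM _).mpr hdvd2
  rw [hF] at hI
  have hψ1 : (ψ : L → ℂ) 1 = (Cfsg.charDegree (ψ : L → ℂ) : ℂ) :=
    Cfsg.Agent.Lib.Helper80.char_one_eq_charDegree
      (Cfsg.Agent.Lib.Helper80.isCharacter_of_isIrrCharacter ψ.2)
  have hψ0 : (ψ : L → ℂ) 1 ≠ 0 := Cfsg.Agent.Lib.Helper81.irr_one_ne_zero ψ
  have e1 : (L.index : ℂ) *
      ∑ x : L, Cfsg.blockCoeff (Cfsg.principalBlock M G) (x : G) * (ψ : L → ℂ) x =
      ((L.index * Cfsg.charDegree (ψ : L → ℂ) : ℕ) : ℂ) *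
        ((∑ x : L, Cfsg.blockCoeff (Cfsg.principalBlock M G) (x : G) * (ψ : L → ℂ) x) /
          (ψ : L → ℂ) 1) := by
    push_cast
    rw [← hψ1]
    field_simp
  rw [e1] at hI
  exact hU (memLocalIdeal_of_natCast_mul hM (Nat.Prime.not_dvd_mul hp hidx hdeg) hI)

end Main

end Cfsg.Agent.Lib.Helper74.LemmaL
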