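import Mathlib
import Cfsg.Prelude.Def_Blocks
import Cfsg.Agent.Lib.Helper81.ADGen
import Cfsg.Agent.Lib.Helper75.Gallagher
import Cfsg.Agent.Lib.Helper75.Gallagher2
import Cfsg.Agent.Lib.Helper79.Linear
import Cfsg.Agent.Lib.Helper77.Osima
import Cfsg.Agent.Lib.Helper77.IdemCalc
import Cfsg.Agent.Lib.Helper74.LemmaL

set_option autoImplicit false
set_option linter.style.haveILetI false
set_option linter.unusedSectionVars false

/-!
# Extensions in the principal block when `G = N C_G(P)`, `P` a Sylow subgroup of `N`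

Tools for the statement S4937: the Alperin–Dade bijection for the subgroups `A ≥ N` with
`[A : N]` prime to `p`, its compatibility with restriction, the linear character comparing two
extensions, the `p'`-part exponent, detection of the principal block on `p`-regular classes.
-/

namespace Cfsg.Agent.Lib.Helper74.ADExt

open scoped ComplexConjugate

universe u

section Good

variable {G : Type u} [Group G] [Finite G] {p : ℕ} [Fact p.Prime] {M : Ideal Cfsg.AlgInt}

/-- the Alperin–Dade bijection for the subgroups `A ≥ N` of index prime to `p` over `N` -/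
theorem adc_good (hM : Cfsg.IsPModular p M) (N : Subgroup G) [hN : N.Normal] (P : Sylow p ↥N)
    (hcov : N ⊔ Subgroup.centralizer (((P : Subgroup ↥N).map N.subtype : Subgroup G) : Set G) = ⊤)
    (A : Subgroup G) (hNA : N ≤ A) (hA : ¬ p ∣ N.relIndex A) :
    Helper81.ADc M (Subgroup.inclusion hNA) := by
  obtain ⟨Q, hQ⟩ : ∃ Q : Subgroup G, Q = (P : Subgroup ↥N).map N.subtype := ⟨_, rfl⟩
  rw [← hQ] at hcov
  have hQN : Q ≤ N := by
    rw [hQ]
    exact Subgroup.map_subtype_le _
  have hQidx : ¬ p ∣ Q.relIndex N := by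
    have h1 : Q.subgroupOf N = (P : Subgroup N) := by
      rw [hQ]
      ext x
      rw [Subgroup.mem_subgroupOf, Subgroup.mem_map]
      constructor
      · rintro ⟨y, hy, hyx⟩
        have h2 : y = x := Subtype.ext hyx
        rw [← h2]
        exact hy
      · intro hx
        exact ⟨x, hx, rfl⟩
    show ¬ p ∣ (Q.subgroupOf N).index
    rw [h1]
    exact P.not_dvd_index
  have hidx' : ¬ p ∣ (N.subgroupOf A).index := hA
  have hcos' : ∀ g : A, ∃ c : A, c⁻¹ * g ∈ N.subgroupOf A ∧
      ¬ p ∣ (Subgroup.centralizer ({c} : Set A)).index := by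
    intro g
    have hg : (g : G) ∈ N ⊔ Subgroup.centralizer (Q : Set G) := by
      rw [hcov]
      exact Subgroup.mem_top _
    obtain ⟨n, hn, c, hc, hnc⟩ := Helper81.exists_mul_of_mem_sup_normal N _ hg
    have hcA : c ∈ A := by
      have h1 : c = n⁻¹ * (g : G) := by
        rw [← hnc]
        group
      rw [h1]
      exact A.mul_mem (A.inv_mem (hNA hn)) g.2
    refine ⟨⟨c, hcA⟩, ?_, ?_⟩
    · rw [Subgroup.mem_subgroupOf]
      show c⁻¹ * (g : G) ∈ N
      rw [← hnc]
      have h1 := hN.conj_mem n hn c⁻¹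
      have e : c⁻¹ * (n * c) = c⁻¹ * n * c⁻¹⁻¹ := by group
      rw [e]
      exact h1
    · rw [Helper81.centralizer_subtype_eq A c hcA]
      show ¬ p ∣ (Subgroup.centralizer ({c} : Set G)).relIndex A
      have hle : Q ≤ Subgroup.centralizer ({c} : Set G) := by
        intro x hx
        rw [Subgroup.mem_centralizer_iff]
        intro y hy
        rw [Set.mem_singleton_iff] at hy
        rw [hy]
        exact ((Subgroup.mem_centralizer_iff.1 hc) x hx).symm
      intro h
      have h1 : (Subgroup.centralizer ({c} : Set G)).relIndex A ∣ Q.relIndex A :=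
        Subgroup.relIndex_dvd_of_le_left A hle
      have h2 : Q.relIndex N * N.relIndex A = Q.relIndex A :=
        Subgroup.relIndex_mul_relIndex Q N A hQN hNA
      rw [← h2] at h1
      rcases (Nat.Prime.dvd_mul (Fact.out : p.Prime)).1 (dvd_trans h h1) with h3 | h3
      · exact hQidx h3
      · exact hA h3
  have h2 := Helper81.alperin_dade hM (N.subgroupOf A) hidx' hcos'
  have h3 : Helper81.ADc M (Subgroup.subgroupOfEquivOfLe hNA).symm.toMonoidHom :=
    Helper81.ADc.of_mulEquiv M _
  have h4 := h3.comp h2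
  have e : (N.subgroupOf A).subtype.comp
      (Subgroup.subgroupOfEquivOfLe hNA).symm.toMonoidHom = Subgroup.inclusion hNA := by
    ext n
    rfl
  rw [e] at h4
  exact h4

/-- **compatibility with restriction** (relative form of `Helper81.ad_restrict_eq`): the member
of the principal block of `A` extending `θ` restricts on an intermediate subgroup `L` to any
member of the principal block of `L` extending `θ` -/
theorem ad_restrict_eq' (hM : Cfsg.IsPModular p M) (N : Subgroup G) [hN : N.Normal]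
    {L A : Subgroup G} (hNL : N ≤ L) (hLA : L ≤ A) (hrel : ¬ p ∣ N.relIndex A)
    (hA : Helper81.ADc M (Subgroup.inclusion (hNL.trans hLA)))
    (θ : Cfsg.IrrCharacter N)
    (ψ : Cfsg.IrrCharacter L) (hψ : ψ ∈ Cfsg.principalBlock M L)
    (hψθ : ∀ n : N, (ψ : L → ℂ) (Subgroup.inclusion hNL n) = (θ : N → ℂ) n)
    (χ : Cfsg.IrrCharacter A) (hχ : χ ∈ Cfsg.principalBlock M A)
    (hχθ : ∀ n : N, (χ : A → ℂ) (Subgroup.inclusion (hNL.trans hLA) n) = (θ : N → ℂ) n)
    (l : L) : (χ : A → ℂ) (Subgroup.inclusion hLA l) = (ψ : L → ℂ) l := by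
  classical
  haveI : Fintype A := Fintype.ofFinite _
  haveI : Fintype N := Fintype.ofFinite _
  haveI : Fintype (L.subgroupOf A) := Fintype.ofFinite _
  let e : L.subgroupOf A ≃* L := Subgroup.subgroupOfEquivOfLe hLA
  let ψ' : Cfsg.IrrCharacter (L.subgroupOf A) := Helper77.mapIrr e.symm ψ
  have hψ' : ψ' ∈ Cfsg.principalBlock M (L.subgroupOf A) :=
    (Helper81.principalBlock_mapIrr M e.symm ψ).2 hψ
  have hψ'v : ∀ x : L.subgroupOf A, (ψ' : _ → ℂ) x = (ψ : L → ℂ) (e x) := fun x => rfl
  let P : Sylow p A := default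
  have hidxA : ¬ p ∣ (N.subgroupOf A).index := hrel
  have hPN : (P : Subgroup A) ≤ N.subgroupOf A :=
    Helper81.sylow_le_of_normal_of_not_dvd_index _ hidxA P
  have hNL' : N.subgroupOf A ≤ L.subgroupOf A := fun x hx => by
    rw [Subgroup.mem_subgroupOf] at hx ⊢
    exact hNL hx
  obtain ⟨χ₁, hχ₁, hover⟩ := Helper74.LemmaL.exists_over p M hM P (L.subgroupOf A)
    (fun x hx l hl => (L.subgroupOf A).mul_mem ((L.subgroupOf A).mul_mem (hNL' (hPN hx)) hl)
      ((L.subgroupOf A).inv_mem (hNL' (hPN hx)))) ψ' hψ'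
  obtain ⟨θ₁, hθ₁, h1⟩ := hA.1 χ₁ hχ₁
  let φ : N →* L.subgroupOf A := e.symm.toMonoidHom.comp (Subgroup.inclusion hNL)
  have hφ : ∀ n : N, ((φ n : L.subgroupOf A) : A) = Subgroup.inclusion (hNL.trans hLA) n :=
    fun n => rfl
  have hξc : Cfsg.IsCharacter (L.subgroupOf A) (fun x : L.subgroupOf A => (χ₁ : A → ℂ) x) :=
    Helper80.isCharacter_restrict (L.subgroupOf A) (Helper80.isCharacter_of_isIrrCharacter χ₁.2)
  have hξirr : Cfsg.IsIrrCharacter (L.subgroupOf A)
      (fun x : L.subgroupOf A => (χ₁ : A → ℂ) x) := by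
    apply Helper81.isIrrCharacter_of_comp_irr φ hξc
    have h3 : (fun q : N => (χ₁ : A → ℂ) ((φ q : L.subgroupOf A) : A)) = (θ₁ : N → ℂ) := by
      funext n
      rw [hφ n]
      exact h1 n
    rw [h3]
    exact θ₁.2
  have hξ : (fun x : L.subgroupOf A => (χ₁ : A → ℂ) x) = (ψ' : _ → ℂ) := by
    by_contra hne
    rw [Helper80.classInner_irr_fun hξirr ψ'.2, if_neg hne] at hover
    exact hover rfl
  have h2 : ∀ n : N, (χ₁ : A → ℂ) (Subgroup.inclusion (hNL.trans hLA) n) = (θ : N → ℂ) n := by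
    intro n
    have h3 := congrFun hξ (φ n)
    rw [hψ'v] at h3
    have he : e (φ n) = Subgroup.inclusion hNL n := e.apply_symm_apply _
    rw [he, hψθ n] at h3
    exact h3
  have hθ : θ ∈ Cfsg.principalBlock M N := by
    have h3 : θ₁ = θ := by
      apply Subtype.ext
      funext n
      rw [← h1 n, h2 n]
    rw [← h3]
    exact hθ₁
  obtain ⟨χ₀, -, -, hu⟩ := hA.2 θ hθ
  have e1 : χ = χ₁ := by rw [hu χ hχ hχθ, hu χ₁ hχ₁ h2]
  rw [e1]
  have h3 := congrFun hξ (e.symm l)
  rw [hψ'v, e.apply_symm_apply] at h3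
  exact h3

end Good

section Gallagher

/-- two irreducible characters with the same irreducible restriction to a normal subgroup differ
by a linear character trivial on the subgroup -/
theorem exists_linear_of_ext {A : Type u} [Group A] [Fintype A] (N : Subgroup A) [hN : N.Normal]
    [Fintype N] {X Y : A → ℂ} (hX : Cfsg.IsIrrCharacter A X) (hY : Cfsg.IsIrrCharacter A Y)
    (hXN : Cfsg.IsIrrCharacter N (fun n : N => X n)) (hXY : ∀ n : N, Y n = X n) :
    ∃ μ : A → ℂ, Cfsg.IsIrrCharacter A μ ∧ μ 1 = 1 ∧ (∀ n : N, μ n = 1) ∧ Y = μ * X := by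
  have hne : Cfsg.classInner (fun n : N => Y n) (fun n : N => X n) ≠ 0 := by
    have h1 : (fun n : N => Y n) = fun n : N => X n := funext hXY
    rw [h1, Helper80.classInner_irr_fun hXN hXN, if_pos rfl]
    exact one_ne_zero
  obtain ⟨β, hβ, hβN, hYβ⟩ := Helper75.gallagher_exists N hX hXN hY hne
  have hX1 : X 1 ≠ 0 := Helper80.char_one_ne_zero hX
  have hβ1 : β 1 = 1 := by
    have h1 := congrFun hYβ 1
    have h2 := hXY 1
    simp only [Pi.mul_apply] at h1
    have h3 : Y 1 = X 1 := h2
    rw [h3] at h1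
    have h4 : (β 1 - 1) * X 1 = 0 := by linear_combination -h1
    rcases mul_eq_zero.1 h4 with h5 | h5
    · exact sub_eq_zero.1 h5
    · exact absurd h5 hX1
  exact ⟨β, hβ, hβ1, fun n => by rw [hβN n, hβ1], hYβ⟩

end Gallagher

section Mu

variable {G : Type u} [Group G] [Finite G]

/-- the linear character comparing an irreducible extension `ψ` of `θ` to `G` with an extension
`X` of `θ` to a subgroup `A ≥ N`, with its explicit formula as a coset average -/
theorem exists_mu (N : Subgroup G) [hN : N.Normal] [Fintype N] (A : Subgroup G) (hNA : N ≤ A)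
    (θ : Cfsg.IrrCharacter N) (ψ : Cfsg.IrrCharacter G)
    (hψ : ∀ n : N, (ψ : G → ℂ) n = (θ : N → ℂ) n)
    (X : Cfsg.IrrCharacter A)
    (hX : ∀ n : N, (X : A → ℂ) (Subgroup.inclusion hNA n) = (θ : N → ℂ) n) :
    ∃ μ : A → ℂ, Cfsg.IsCharacter A μ ∧ μ 1 = 1 ∧ (∀ a b : A, μ (a * b) = μ a * μ b) ∧
      (∀ a : A, μ a * conj (μ a) = 1) ∧ (∀ a : A, (a : G) ∈ N → μ a = 1) ∧
      (∀ a : A, (ψ : G → ℂ) a = μ a * (X : A → ℂ) a) ∧
      (∀ a : A, (Nat.card N : ℂ)⁻¹ * ∑ n : N, (ψ : G → ℂ) ((n : G) * a) *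
        conj ((X : A → ℂ) (Subgroup.inclusion hNA n * a)) = μ a) := by
  classical
  haveI : Fintype G := Fintype.ofFinite G
  haveI : Fintype A := Fintype.ofFinite _
  haveI : Fintype (N.subgroupOf A) := Fintype.ofFinite _
  let e : N.subgroupOf A ≃* N := Subgroup.subgroupOfEquivOfLe hNA
  have hXN : Cfsg.IsIrrCharacter (N.subgroupOf A)
      (fun n' : N.subgroupOf A => (X : A → ℂ) n') := by
    have h1 := Helper80.isIrrCharacter_comp_mulEquiv e θ.2
    have h2 : (fun n' : N.subgroupOf A => (X : A → ℂ) n') = fun n' => (θ : N → ℂ) (e n') := by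
      funext n'
      exact hX (e n')
    rw [h2]
    exact h1
  have hYc : Cfsg.IsCharacter A (fun a : A => (ψ : G → ℂ) a) :=
    Helper80.isCharacter_restrict A (Helper80.isCharacter_of_isIrrCharacter ψ.2)
  have hYirr : Cfsg.IsIrrCharacter A (fun a : A => (ψ : G → ℂ) a) := by
    apply Helper81.isIrrCharacter_of_comp_irr (Subgroup.inclusion hNA) hYc
    have h3 : (fun q : N => (ψ : G → ℂ) ((Subgroup.inclusion hNA q : A) : G)) = (θ : N → ℂ) := by
      funext n
      exact hψ n
    rw [h3]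
    exact θ.2
  have hXY : ∀ n' : N.subgroupOf A, (fun a : A => (ψ : G → ℂ) a) n' = (X : A → ℂ) n' := by
    intro n'
    have h1 := hX (e n')
    have h2 := hψ (e n')
    show (ψ : G → ℂ) ((n' : A) : G) = (X : A → ℂ) n'
    rw [show (X : A → ℂ) n' = (θ : N → ℂ) (e n') from h1, ← h2]
    rfl
  obtain ⟨μ, hμ, hμ1, hμN, hYμ⟩ := exists_linear_of_ext (N.subgroupOf A) X.2 hYirr hXN hXY
  have hμc := Helper80.isCharacter_of_isIrrCharacter hμ
  have hmul : ∀ a b : A, μ (a * b) = μ a * μ b := Helper79.linear_irr_mul hμ hμ1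
  have hnorm : ∀ a : A, μ a * conj (μ a) = 1 := by
    intro a
    rw [← Helper80.char_inv_eq_conj hμc a, ← hmul, mul_inv_cancel, hμ1]
  have htriv : ∀ a : A, (a : G) ∈ N → μ a = 1 := by
    intro a ha
    exact hμN ⟨a, Subgroup.mem_subgroupOf.2 ha⟩
  have hval : ∀ a : A, (ψ : G → ℂ) a = μ a * (X : A → ℂ) a := fun a => congrFun hYμ a
  refine ⟨μ, hμc, hμ1, hmul, hnorm, htriv, hval, ?_⟩
  intro a
  have hterm : ∀ n : N, (ψ : G → ℂ) ((n : G) * a) *
      conj ((X : A → ℂ) (Subgroup.inclusion hNA n * a)) =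
      μ a * ((X : A → ℂ) (Subgroup.inclusion hNA n * a) *
        conj ((X : A → ℂ) (Subgroup.inclusion hNA n * a))) := by
    intro n
    have h1 : (ψ : G → ℂ) ((n : G) * a) =
        μ (Subgroup.inclusion hNA n * a) * (X : A → ℂ) (Subgroup.inclusion hNA n * a) :=
      hval (Subgroup.inclusion hNA n * a)
    rw [h1, hmul, htriv (Subgroup.inclusion hNA n) n.2, one_mul]
    ring
  rw [Finset.sum_congr rfl (fun n _ => hterm n), ← Finset.mul_sum]
  have key := congrFun (Cfsg.Agent.S0868.avg_self (N.subgroupOf A) (X : A → ℂ) X.2 hXN) a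
  have hsum : ∑ n : N, (X : A → ℂ) (Subgroup.inclusion hNA n * a) *
      conj ((X : A → ℂ) (Subgroup.inclusion hNA n * a)) =
      ∑ n' : N.subgroupOf A, (X : A → ℂ) ((n' : A) * a) * conj ((X : A → ℂ) ((n' : A) * a)) := by
    refine (Fintype.sum_equiv e.toEquiv _ _ (fun n' => ?_)).symm
    rfl
  have hcard : Nat.card (N.subgroupOf A) = Nat.card N := Nat.card_congr e.toEquiv
  rw [hcard] at key
  rw [hsum]
  have hN0 : (Nat.card N : ℂ) ≠ 0 := by exact_mod_cast (Nat.card_pos (α := N)).ne'
  have key' : (Nat.card N : ℂ)⁻¹ * ∑ n' : N.subgroupOf A, (X : A → ℂ) ((n' : A) * a) *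
      conj ((X : A → ℂ) ((n' : A) * a)) = 1 := key
  calc (Nat.card N : ℂ)⁻¹ * (μ a * ∑ n' : N.subgroupOf A, (X : A → ℂ) ((n' : A) * a) *
      conj ((X : A → ℂ) ((n' : A) * a)))
      = μ a * ((Nat.card N : ℂ)⁻¹ * ∑ n' : N.subgroupOf A, (X : A → ℂ) ((n' : A) * a) *
      conj ((X : A → ℂ) ((n' : A) * a))) := by ring
    _ = μ a := by rw [key', mul_one]

end Mu

section Exp

/-- powers by multiples of the index of the center are multiplicative (transfer) -/
theorem pow_mul_of_center_index {E : Type*} [Group E] [Finite E] (t : ℕ) (a b : E) :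
    (a * b) ^ ((Subgroup.center E).index * t) =
      a ^ ((Subgroup.center E).index * t) * b ^ ((Subgroup.center E).index * t) ∧
    a ^ ((Subgroup.center E).index * t) ∈ Subgroup.center E := by
  have hT : ∀ g : E, ((MonoidHom.transferCenterPow E g : Subgroup.center E) : E) =
      g ^ (Subgroup.center E).index := fun g => MonoidHom.transferCenterPow_apply g
  have h1 : (a * b) ^ (Subgroup.center E).index =
      a ^ (Subgroup.center E).index * b ^ (Subgroup.center E).index := by
    rw [← hT, ← hT, ← hT, map_mul]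
    rfl
  have hc : ∀ g : E, g ^ (Subgroup.center E).index ∈ Subgroup.center E := fun g => by
    rw [← hT]
    exact (MonoidHom.transferCenterPow E g).2
  constructor
  · rw [pow_mul, pow_mul, pow_mul, h1]
    have hcomm : Commute (a ^ (Subgroup.center E).index) (b ^ (Subgroup.center E).index) :=
      Subgroup.mem_center_iff.1 (hc b) _
    exact hcomm.mul_pow t
  · rw [pow_mul]
    exact (Subgroup.center E).pow_mem (hc a) t

/-- an exponent `e` such that `g ↦ g ^ e` is the `p'`-part: its values are `p`-regular, it fixes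
the `p`-regular elements, and it is multiplicative on every elementary subgroup -/
theorem exists_exp (p : ℕ) [hp : Fact p.Prime] (G : Type*) [Group G] [Finite G] :
    ∃ e : ℕ, (∀ g : G, ¬ p ∣ orderOf (g ^ e)) ∧ (∀ g : G, ¬ p ∣ orderOf g → g ^ e = g) ∧
      ∀ (E : Subgroup G) (q : ℕ), q.Prime → Cfsg.IsElementary q E →
        ∀ a b : E, ((a * b : E) : G) ^ e = (a : G) ^ e * (b : G) ^ e := by
  obtain ⟨a, m, hm, hn⟩ := Nat.exists_eq_pow_mul_and_not_dvd (Nat.card_pos (α := G)).ne' p
    hp.out.ne_one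
  have hcop : Nat.Coprime (p ^ a) m :=
    Nat.Coprime.pow_left a ((Nat.Prime.coprime_iff_not_dvd hp.out).2 hm)
  obtain ⟨k, hk0, hk1⟩ : ∃ k : ℕ, k ≡ 0 [MOD p ^ a] ∧ k ≡ 1 [MOD m] :=
    ⟨(Nat.chineseRemainder hcop 0 1 : ℕ), (Nat.chineseRemainder hcop 0 1).2.1,
      (Nat.chineseRemainder hcop 0 1).2.2⟩
  obtain ⟨e, he⟩ : ∃ e : ℕ, e = k + p ^ a * m := ⟨_, rfl⟩
  have he0 : p ^ a ∣ e := by
    rw [he]
    exact Dvd.dvd.add ((Nat.modEq_zero_iff_dvd).1 hk0) (dvd_mul_right _ _)
  have he1 : e ≡ 1 [MOD m] := by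
    rw [he]
    have h1 : k + p ^ a * m ≡ 1 + 0 [MOD m] :=
      Nat.ModEq.add hk1 ((Nat.modEq_zero_iff_dvd).2 (dvd_mul_left _ _))
    exact h1
  have hepos : 1 ≤ e := by
    rw [he]
    have h1 : 0 < p ^ a * m := by
      rw [← hn]
      exact Nat.card_pos
    omega
  have hm1 : m ∣ e - 1 := (Nat.modEq_iff_dvd' hepos).1 he1.symm
  refine ⟨e, ?_, ?_, ?_⟩
  · intro g hg
    have h1 : (g ^ e) ^ m = 1 := by
      rw [← pow_mul]
      obtain ⟨t, ht⟩ := he0
      rw [ht, mul_assoc, mul_comm t m, ← mul_assoc, ← hn, pow_mul, pow_card_eq_one', one_pow]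
    exact hm (dvd_trans hg (orderOf_dvd_of_pow_eq_one h1))
  · intro g hg
    have h1 : orderOf g ∣ m := by
      have h2 : orderOf g ∣ p ^ a * m := hn ▸ orderOf_dvd_natCard g
      exact Nat.Coprime.dvd_of_dvd_mul_left
        (Nat.Coprime.pow_right a ((Nat.Prime.coprime_iff_not_dvd hp.out).2 hg).symm) h2
    have h3 : e ≡ 1 [MOD orderOf g] := he1.of_dvd h1
    have h4 := pow_eq_pow_iff_modEq.2 h3
    rwa [pow_one] at h4
  · intro E q hq hE x y
    obtain ⟨z, hz, -, j, hj⟩ := hE
    have hzc : Subgroup.zpowers z ≤ Subgroup.center E := Subgroup.zpowers_le.2 hz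
    have hidx1 : (Subgroup.center E).index ∣ q ^ j := by
      rw [← hj]
      exact Subgroup.index_dvd_of_le hzc
    obtain ⟨i, -, hi⟩ := (Nat.dvd_prime_pow hq).1 hidx1
    have hidx2 : (Subgroup.center E).index ∣ p ^ a * m := by
      rw [← hn]
      exact dvd_trans (Subgroup.index_dvd_card _) (Subgroup.card_subgroup_dvd_card E)
    by_cases hqp : q = p
    · have h1 : (Subgroup.center E).index ∣ p ^ a := by
        apply Nat.Coprime.dvd_of_dvd_mul_right _ hidx2
        rw [hi, hqp]
        exact Nat.Coprime.pow_left i ((Nat.Prime.coprime_iff_not_dvd hp.out).2 hm)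
      obtain ⟨t, ht⟩ := dvd_trans h1 he0
      have h2 := (pow_mul_of_center_index t x y).1
      rw [← ht] at h2
      have h3 := congrArg (fun w : E => (w : G)) h2
      simpa using h3
    · have h1 : (Subgroup.center E).index ∣ m := by
        apply Nat.Coprime.dvd_of_dvd_mul_left _ hidx2
        rw [hi]
        exact Nat.Coprime.pow i a ((Nat.coprime_primes hq hp.out).2 hqp)
      obtain ⟨t, ht⟩ := dvd_trans h1 hm1
      have het : e = (Subgroup.center E).index * t + 1 := by omega
      have h2 := (pow_mul_of_center_index t x y).1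
      have h4 := (pow_mul_of_center_index t y x).2
      have h5 : (x * y) ^ e = x ^ e * y ^ e := by
        rw [het, pow_succ, pow_succ, pow_succ, h2]
        have hcomm := Subgroup.mem_center_iff.1 h4 x
        calc x ^ ((Subgroup.center E).index * t) * y ^ ((Subgroup.center E).index * t) * (x * y)
            = x ^ ((Subgroup.center E).index * t) *
              (y ^ ((Subgroup.center E).index * t) * x) * y := by group
          _ = x ^ ((Subgroup.center E).index * t) *
              (x * y ^ ((Subgroup.center E).index * t)) * y := by rw [← hcomm]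
          _ = x ^ ((Subgroup.center E).index * t) * x *
              (y ^ ((Subgroup.center E).index * t) * y) := by group
      have h3 := congrArg (fun w : E => (w : G)) h5
      simpa using h3

end Exp

section Regular

open Cfsg Cfsg.Agent.Lib.Helper16 Cfsg.Agent.Lib.Helper77 Cfsg.Agent.Lib.Helper81

variable {H : Type*} [Group H] [Finite H] {p : ℕ} [Fact p.Prime] {M : Ideal Cfsg.AlgInt}

/-- membership in the principal block is detected on the `p`-regular classes -/
theorem mem_principalBlock_of_regular (hM : Cfsg.IsPModular p M) (ξ : Cfsg.IrrCharacter H)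
    (h : ∀ g : H, ¬ p ∣ orderOf g → Cfsg.MemLocalIdeal M
      (Cfsg.centralChar (fun _ : H => (1 : ℂ)) g - Cfsg.centralChar (ξ : H → ℂ) g)) :
    ξ ∈ Cfsg.principalBlock M H := by
  classical
  haveI : Fintype H := Fintype.ofFinite H
  have hPr := isPrime_of_isPModular hM
  by_contra hcon
  obtain ⟨heR, hecf, hom⟩ := blockCoeff_spec hPr (Cfsg.principalBlock M H)
    (isPBlock_principalBlock M)
  obtain ⟨a, ha⟩ : ∃ a : H → ℂ, a = Cfsg.blockCoeff (Cfsg.principalBlock M H) := ⟨_, rfl⟩
  rw [← ha] at heR hecf hom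
  have h1 : Cfsg.MemLocalIdeal M (omegaF (trivIrr H : H → ℂ) a - omegaF (ξ : H → ℂ) a) := by
    unfold omegaF
    rw [Finset.sum_div, Finset.sum_div, ← Finset.sum_sub_distrib]
    apply sum_class_invariant_mem (Cfsg.MemLocalIdeal M) (memLocalIdeal_zero hPr)
      (fun x y hx hy => memLocalIdeal_add hPr hx hy)
      (fun g => a g * (trivIrr H : H → ℂ) g / (trivIrr H : H → ℂ) 1 -
        a g * (ξ : H → ℂ) g / (ξ : H → ℂ) 1)
    · intro x g
      simp only [hecf g x, irrCharacter_conj_eq]
    · intro g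
      by_cases hg : p ∣ orderOf g
      · have h0 : a g = 0 := by
          rw [ha]
          exact blockCoeff_eq_zero_of_singular hM _ (isPBlock_principalBlock M) hg
        rw [h0]
        simp only [zero_mul, zero_div, sub_zero, mul_zero]
        exact memLocalIdeal_zero hPr
      · have e : ((Subgroup.centralizer ({g} : Set H)).index : ℂ) *
            (a g * (trivIrr H : H → ℂ) g / (trivIrr H : H → ℂ) 1 -
              a g * (ξ : H → ℂ) g / (ξ : H → ℂ) 1) =
            a g * (Cfsg.centralChar (fun _ : H => (1 : ℂ)) g -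
              Cfsg.centralChar (ξ : H → ℂ) g) := by
          unfold Cfsg.centralChar
          simp only [trivIrr_apply]
          ring
        rw [e]
        exact memLocalIdeal_mul_left hPr (heR g) (h g hg)
    · intro x g _
      exact Finset.mem_univ _
  rw [hom, hom, if_pos (trivIrr_mem_principalBlock hPr), if_neg hcon, sub_zero] at h1
  exact not_memLocalIdeal_one hPr h1

end Regular

section Index

variable {Γ : Type*} [Group Γ] [Finite Γ]

/-- `[N X : X] = [N : N ∩ X]` for a normal subgroup `N` -/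
theorem relIndex_sup_eq (N X : Subgroup Γ) [N.Normal] :
    X.relIndex (N ⊔ X) = (N ⊓ X).relIndex N := by
  have h1 : Nat.card X * X.relIndex (N ⊔ X) = Nat.card ↥(N ⊔ X) := by
    have h := Subgroup.relIndex_mul_relIndex (⊥ : Subgroup Γ) X (N ⊔ X) bot_le le_sup_right
    rwa [Subgroup.relIndex_bot_left, Subgroup.relIndex_bot_left] at h
  have h2 : Nat.card N * N.relIndex (N ⊔ X) = Nat.card ↥(N ⊔ X) := by
    have h := Subgroup.relIndex_mul_relIndex (⊥ : Subgroup Γ) N (N ⊔ X) bot_le le_sup_left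
    rwa [Subgroup.relIndex_bot_left, Subgroup.relIndex_bot_left] at h
  have h3 : N.relIndex (N ⊔ X) = N.relIndex X := Subgroup.relIndex_sup_left X N
  have h4 : Nat.card ↥(N ⊓ X) * (N ⊓ X).relIndex X = Nat.card X := by
    have h := Subgroup.relIndex_mul_relIndex (⊥ : Subgroup Γ) (N ⊓ X) X bot_le inf_le_right
    rwa [Subgroup.relIndex_bot_left, Subgroup.relIndex_bot_left] at h
  have h5 : Nat.card ↥(N ⊓ X) * (N ⊓ X).relIndex N = Nat.card N := by
    have h := Subgroup.relIndex_mul_relIndex (⊥ : Subgroup Γ) (N ⊓ X) N bot_le inf_le_left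
    rwa [Subgroup.relIndex_bot_left, Subgroup.relIndex_bot_left] at h
  have h6 : (N ⊓ X).relIndex X = N.relIndex X := Subgroup.inf_relIndex_right N X
  have hX : 0 < Nat.card X := Nat.card_pos
  apply Nat.eq_of_mul_eq_mul_left hX
  rw [h1, ← h2, h3, ← h5, ← h6, mul_assoc, mul_comm ((N ⊓ X).relIndex N), ← mul_assoc, h4]

/-- the class of `c` in `J ≥ N` is a union of classes of `N⟨c⟩` of equal size -/
theorem relIndex_centralizer_eq (N : Subgroup Γ) [N.Normal] (J : Subgroup Γ) (hNJ : N ≤ J)
    (c : Γ) :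
    (Subgroup.centralizer ({c} : Set Γ)).relIndex J =
      (Subgroup.centralizer ({c} : Set Γ)).relIndex (N ⊔ Subgroup.zpowers c) *
        (N ⊔ (Subgroup.centralizer ({c} : Set Γ) ⊓ J)).relIndex J := by
  obtain ⟨C, hC⟩ : ∃ C : Subgroup Γ, C = Subgroup.centralizer ({c} : Set Γ) := ⟨_, rfl⟩
  rw [← hC]
  have hZC : Subgroup.zpowers c ≤ C := by
    rw [Subgroup.zpowers_le, hC, Subgroup.mem_centralizer_iff]
    intro y hy
    rw [Set.mem_singleton_iff] at hy
    rw [hy]
  have hA : C.relIndex (N ⊔ Subgroup.zpowers c) = (N ⊓ C).relIndex N := by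
    have e1 : N ⊔ (C ⊓ (N ⊔ Subgroup.zpowers c)) = N ⊔ Subgroup.zpowers c := by
      apply le_antisymm
      · exact sup_le le_sup_left inf_le_right
      · exact sup_le le_sup_left (le_sup_of_le_right (le_inf hZC le_sup_right))
    have e2 : N ⊓ (C ⊓ (N ⊔ Subgroup.zpowers c)) = N ⊓ C := by
      apply le_antisymm
      · exact le_inf inf_le_left (inf_le_of_right_le inf_le_left)
      · exact le_inf inf_le_left (le_inf inf_le_right (inf_le_of_left_le le_sup_left))
    have h1 := relIndex_sup_eq N (C ⊓ (N ⊔ Subgroup.zpowers c))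
    rw [e1, e2, Subgroup.inf_relIndex_right] at h1
    exact h1
  have hJ : C.relIndex J = (N ⊓ C).relIndex N * (N ⊔ (C ⊓ J)).relIndex J := by
    have e2 : N ⊓ (C ⊓ J) = N ⊓ C := by
      apply le_antisymm
      · exact le_inf inf_le_left (inf_le_of_right_le inf_le_left)
      · exact le_inf inf_le_left (le_inf inf_le_right (inf_le_of_left_le hNJ))
    have h1 := relIndex_sup_eq N (C ⊓ J)
    rw [e2] at h1
    have h2 := Subgroup.relIndex_mul_relIndex (C ⊓ J) (N ⊔ (C ⊓ J)) J le_sup_right
      (sup_le hNJ inf_le_right)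
    rw [Subgroup.inf_relIndex_right, h1] at h2
    exact h2.symm
  rw [hJ, hA]

end Index

end Cfsg.Agent.Lib.Helper74.ADExt
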