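import Mathlib
import Cfsg.Prelude.Def_Blocks
import Cfsg.Agent.Lib.Helper74.ADExt

set_option autoImplicit false
set_option linter.style.haveILetI false
set_option linter.unusedSectionVars false

/-!
# Extension of a principal block character when `G = N C_G(P)`, `P` a Sylow subgroup of `N`

If `θ` in the principal block of `N` extends to `G`, some extension `χ` restricts to a member of
the principal block of `J` for every `N ≤ J ≤ G`.
-/

namespace Cfsg.Agent.Lib.Helper74.ADExt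

open scoped ComplexConjugate

universe u

section Conj

variable {G : Type u} [Group G]

/-- conjugation carries `N⟨c⟩` into `N⟨x c x⁻¹⟩` -/
theorem conj_mem_sup_zpowers (N : Subgroup G) [hN : N.Normal] (x c c' : G)
    (hc' : c' = x * c * x⁻¹) :
    ∀ a ∈ N ⊔ Subgroup.zpowers c, x * a * x⁻¹ ∈ N ⊔ Subgroup.zpowers c' := by
  have h1 : N ⊔ Subgroup.zpowers c ≤
      (N ⊔ Subgroup.zpowers c').comap (MulAut.conj x).toMonoidHom := by
    refine sup_le (fun n hn => ?_) ((Subgroup.zpowers_le).2 ?_)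
    · rw [Subgroup.mem_comap]
      exact (le_sup_left : N ≤ _) (hN.conj_mem n hn x)
    · rw [Subgroup.mem_comap]
      have e : (MulAut.conj x).toMonoidHom c = c' := by
        rw [hc']
        rfl
      rw [e]
      exact (le_sup_right : Subgroup.zpowers c' ≤ _) (Subgroup.mem_zpowers c')
  intro a ha
  exact h1 ha

/-- the isomorphism `A ≃* A'` induced by conjugation with `x` -/
def conjEquiv (x : G) (A A' : Subgroup G) (h1 : ∀ a ∈ A, x * a * x⁻¹ ∈ A')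
    (h2 : ∀ b ∈ A', x⁻¹ * b * x ∈ A) : A ≃* A' where
  toFun := fun a => ⟨x * a * x⁻¹, h1 a a.2⟩
  invFun := fun b => ⟨x⁻¹ * b * x, h2 b b.2⟩
  left_inv := fun a => by
    apply Subtype.ext
    show x⁻¹ * (x * (a : G) * x⁻¹) * x = a
    group
  right_inv := fun b => by
    apply Subtype.ext
    show x * (x⁻¹ * (b : G) * x) * x⁻¹ = b
    group
  map_mul' := fun a b => by
    apply Subtype.ext
    show x * ((a : G) * (b : G)) * x⁻¹ = (x * a * x⁻¹) * (x * b * x⁻¹)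
    group

end Conj

section Main

variable {G : Type u} [Group G] [Finite G] {p : ℕ} [Fact p.Prime] {M : Ideal Cfsg.AlgInt}

theorem ext_principal (hM : Cfsg.IsPModular p M) (N : Subgroup G) [hN : N.Normal]
    (P : Sylow p ↥N)
    (hcov : N ⊔ Subgroup.centralizer (((P : Subgroup ↥N).map N.subtype : Subgroup G) : Set G) = ⊤)
    (θ : Cfsg.IrrCharacter ↥N) (hθ : θ ∈ Cfsg.principalBlock M ↥N)
    (ψ : Cfsg.IrrCharacter G) (hψ : ∀ x : ↥N, (ψ : G → ℂ) x = (θ : ↥N → ℂ) x) :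
    ∃ χ : Cfsg.IrrCharacter G, (∀ x : ↥N, (χ : G → ℂ) x = (θ : ↥N → ℂ) x) ∧
      ∀ J : Subgroup G, N ≤ J → ∃ ξ : Cfsg.IrrCharacter ↥J,
        ξ ∈ Cfsg.principalBlock M ↥J ∧ ∀ y : ↥J, (ξ : ↥J → ℂ) y = (χ : G → ℂ) y := by
  classical
  haveI : Fintype G := Fintype.ofFinite G
  haveI : Fintype N := Fintype.ofFinite N
  haveI : Fintype (Cfsg.IrrCharacter G) := Fintype.ofFinite _
  have hMp := Helper16.isPrime_of_isPModular hM
  obtain ⟨e, he1, he2, he3⟩ := exists_exp p G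
  have hAD : ∀ (A : Subgroup G) (hNA : N ≤ A), ¬ p ∣ N.relIndex A →
      Helper81.ADc M (Subgroup.inclusion hNA) :=
    fun A hNA hA => adc_good hM N P hcov A hNA hA
  have hmem : ∀ g : G, g ∈ N ⊔ Subgroup.zpowers g :=
    fun g => (le_sup_right : Subgroup.zpowers g ≤ N ⊔ Subgroup.zpowers g) (Subgroup.mem_zpowers g)
  have hgoodH : ∀ H : Subgroup G, ¬ p ∣ Nat.card H → ¬ p ∣ N.relIndex (N ⊔ H) := by
    intro H hH h
    rw [Subgroup.relIndex_sup_left] at h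
    exact hH (dvd_trans h (Subgroup.relIndex_dvd_card N H))
  have hgood : ∀ g : G, ¬ p ∣ N.relIndex (N ⊔ Subgroup.zpowers (g ^ e)) := fun g =>
    hgoodH _ (by rw [Nat.card_zpowers]; exact he1 g)
  have hADg : ∀ g : G, Helper81.ADc M
      (Subgroup.inclusion (le_sup_left : N ≤ N ⊔ Subgroup.zpowers (g ^ e))) :=
    fun g => hAD _ le_sup_left (hgood g)
  choose X hX1 hX2 hX3 using fun g => (hADg g).2 θ hθ
  obtain ⟨L, hL⟩ : ∃ L : G → ℂ, L = fun g => (Nat.card N : ℂ)⁻¹ *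
      ∑ n : N, (ψ : G → ℂ) ((n : G) * g ^ e) *
        conj ((X g : ↥(N ⊔ Subgroup.zpowers (g ^ e)) → ℂ)
          (Subgroup.inclusion le_sup_left n * ⟨g ^ e, hmem (g ^ e)⟩)) := ⟨_, rfl⟩
  -- the key comparison on the subgroups of index prime to `p` over `N`
  have hkey : ∀ (A : Subgroup G) (hNA : N ≤ A), ¬ p ∣ N.relIndex A →
      ∀ χA : Cfsg.IrrCharacter A, χA ∈ Cfsg.principalBlock M A →
      (∀ n : N, (χA : A → ℂ) (Subgroup.inclusion hNA n) = (θ : N → ℂ) n) →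
      ∃ μ : A → ℂ, Cfsg.IsCharacter A μ ∧ μ 1 = 1 ∧ (∀ a b : A, μ (a * b) = μ a * μ b) ∧
        (∀ a : A, μ a * conj (μ a) = 1) ∧ (∀ a : A, (a : G) ∈ N → μ a = 1) ∧
        (∀ a : A, (ψ : G → ℂ) a = μ a * (χA : A → ℂ) a) ∧
        ∀ (a : G) (hae : a ^ e ∈ A), L a = μ ⟨a ^ e, hae⟩ := by
    intro A hNA hA χA hχA hχAθ
    obtain ⟨μ, hμc, hμ1, hμmul, hμnorm, hμN, hμval, hμsum⟩ :=
      exists_mu N A hNA θ ψ hψ χA hχAθ
    refine ⟨μ, hμc, hμ1, hμmul, hμnorm, hμN, hμval, ?_⟩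
    intro a hae
    have hLA : N ⊔ Subgroup.zpowers (a ^ e) ≤ A := sup_le hNA ((Subgroup.zpowers_le).2 hae)
    rw [← hμsum ⟨a ^ e, hae⟩, hL]
    show (Nat.card N : ℂ)⁻¹ * _ = (Nat.card N : ℂ)⁻¹ * _
    congr 1
    refine Finset.sum_congr rfl (fun n _ => ?_)
    have h1 := ad_restrict_eq' hM N le_sup_left hLA hA (hAD A hNA hA) θ (X a) (hX1 a) (hX2 a)
      χA hχA hχAθ (Subgroup.inclusion le_sup_left n * ⟨a ^ e, hmem (a ^ e)⟩)
    rw [← h1]
    rfl
  have hLdef : ∀ g : G, L g = (Nat.card N : ℂ)⁻¹ *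
      ∑ n : N, (ψ : G → ℂ) ((n : G) * g ^ e) *
        conj ((X g : ↥(N ⊔ Subgroup.zpowers (g ^ e)) → ℂ)
          (Subgroup.inclusion le_sup_left n * ⟨g ^ e, hmem (g ^ e)⟩)) := fun g => by rw [hL]
  have hself : ∀ g : G, ∃ μ : ↥(N ⊔ Subgroup.zpowers (g ^ e)) → ℂ, μ 1 = 1 ∧
      (∀ a, μ a * conj (μ a) = 1) ∧
      (∀ a : ↥(N ⊔ Subgroup.zpowers (g ^ e)), (a : G) ∈ N → μ a = 1) ∧
      (∀ a : ↥(N ⊔ Subgroup.zpowers (g ^ e)), (ψ : G → ℂ) a = μ a * (X g : _ → ℂ) a) ∧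
      L g = μ ⟨g ^ e, hmem (g ^ e)⟩ := by
    intro g
    obtain ⟨μ, -, hμ1, -, hμnorm, hμN, hμval, hμL⟩ :=
      hkey _ le_sup_left (hgood g) (X g) (hX1 g) (hX2 g)
    exact ⟨μ, hμ1, hμnorm, hμN, hμval, hμL g (hmem (g ^ e))⟩
  have hLnorm : ∀ g : G, L g * conj (L g) = 1 := by
    intro g
    obtain ⟨μ, -, hμnorm, -, -, hμL⟩ := hself g
    rw [hμL]
    exact hμnorm _
  have hLN : ∀ g : G, g ∈ N → L g = 1 := by
    intro g hg
    obtain ⟨μ, -, -, hμN, -, hμL⟩ := hself g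
    rw [hμL]
    exact hμN _ (N.pow_mem hg e)
  have hL1 : L 1 = 1 := hLN 1 N.one_mem
  have hψc := Helper80.isCharacter_of_isIrrCharacter ψ.2
  have hθinv : ∀ (x : G) (n m : N), (m : G) = x * n * x⁻¹ →
      (θ : N → ℂ) m = (θ : N → ℂ) n := by
    intro x n m hm
    rw [← hψ m, ← hψ n, hm]
    exact Helper80.char_conj_eq hψc (n : G) x
  -- `L` is a class function
  have hLcf : ∀ g x : G, L (x * g * x⁻¹) = L g := by
    intro g x
    have hpow : (x * g * x⁻¹) ^ e = x * g ^ e * x⁻¹ := conj_pow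
    have hmap := conj_mem_sup_zpowers N x (g ^ e) ((x * g * x⁻¹) ^ e) hpow
    have hmap' : ∀ b ∈ N ⊔ Subgroup.zpowers ((x * g * x⁻¹) ^ e),
        x⁻¹ * b * x ∈ N ⊔ Subgroup.zpowers (g ^ e) := by
      have h := conj_mem_sup_zpowers N x⁻¹ ((x * g * x⁻¹) ^ e) (g ^ e) (by rw [hpow]; group)
      intro b hb
      have h2 := h b hb
      rwa [inv_inv] at h2
    let α := conjEquiv x _ _ hmap hmap'
    have hχ' : Helper77.mapIrr α (X g) ∈ Cfsg.principalBlock M _ :=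
      (Helper81.principalBlock_mapIrr M α (X g)).2 (hX1 g)
    have hχ'θ : ∀ n : N, (Helper77.mapIrr α (X g) :
        ↥(N ⊔ Subgroup.zpowers ((x * g * x⁻¹) ^ e)) → ℂ) (Subgroup.inclusion le_sup_left n) =
        (θ : N → ℂ) n := by
      intro n
      rw [Helper77.mapIrr_apply]
      have hm : x⁻¹ * (n : G) * x ∈ N := by
        have h2 := hN.conj_mem n n.2 x⁻¹
        rwa [inv_inv] at h2
      have e1 : α.symm (Subgroup.inclusion le_sup_left n) =
          Subgroup.inclusion le_sup_left (⟨x⁻¹ * n * x, hm⟩ : N) := by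
        apply Subtype.ext
        rfl
      rw [e1, hX2 g]
      exact hθinv x⁻¹ n ⟨x⁻¹ * n * x, hm⟩ (by
        show x⁻¹ * (n : G) * x = x⁻¹ * n * x⁻¹⁻¹
        rw [inv_inv])
    have hX' : Helper77.mapIrr α (X g) = X (x * g * x⁻¹) := hX3 (x * g * x⁻¹) _ hχ' hχ'θ
    rw [hLdef, hLdef]
    congr 1
    let σ : N ≃ N := (MulAut.conjNormal x⁻¹ : MulAut N).toEquiv
    refine Fintype.sum_equiv σ _ _ (fun n => ?_)
    have e1 : ((σ n : N) : G) = x⁻¹ * n * x := by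
      show x⁻¹ * (n : G) * x⁻¹⁻¹ = _
      rw [inv_inv]
    have e2 : (ψ : G → ℂ) ((n : G) * (x * g * x⁻¹) ^ e) =
        (ψ : G → ℂ) (((σ n : N) : G) * g ^ e) := by
      rw [e1, hpow]
      have h2 := Helper80.char_conj_eq hψc ((n : G) * (x * g ^ e * x⁻¹)) x⁻¹
      rw [← h2]
      group
    have e3 : α.symm (Subgroup.inclusion le_sup_left n * ⟨(x * g * x⁻¹) ^ e, hmem _⟩) =
        Subgroup.inclusion le_sup_left (σ n) * ⟨g ^ e, hmem (g ^ e)⟩ := by
      apply Subtype.ext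
      show x⁻¹ * ((n : G) * (x * g * x⁻¹) ^ e) * x = ((σ n : N) : G) * g ^ e
      rw [e1, hpow]
      group
    rw [← hX', Helper77.mapIrr_apply, e2, e3]
  obtain ⟨Λ, hΛ⟩ : ∃ Λ : G → ℂ, Λ = fun g => conj (L g) := ⟨_, rfl⟩
  have hΛv : ∀ g, Λ g = conj (L g) := fun g => by rw [hΛ]
  have hcf : Cfsg.IsClassFunction G Λ := by
    intro g x
    rw [hΛv, hΛv, hLcf]
  -- `Λ` is a generalized character
  have hgen : Cfsg.IsGeneralizedCharacter G Λ := by
    apply Helper3.brauer_characterization Λ hcf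
    intro E q hq hE
    let φ₀ : E →* G :=
      { toFun := fun a => (a : G) ^ e
        map_one' := one_pow e
        map_mul' := he3 E q hq hE }
    have hE' : ¬ p ∣ Nat.card φ₀.range := by
      intro h
      obtain ⟨y, hy⟩ := exists_prime_orderOf_dvd_card' (G := φ₀.range) p h
      obtain ⟨a, ha⟩ := y.2
      have h1 : orderOf ((a : G) ^ e) = p := by
        have h2 : ((y : φ₀.range) : G) = (a : G) ^ e := ha.symm
        rw [← h2, Subgroup.orderOf_coe]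
        exact hy
      exact he1 (a : G) (by rw [h1])
    have hgoodA := hgoodH φ₀.range hE'
    obtain ⟨χA, hχA, hχAθ, -⟩ := (hAD _ le_sup_left hgoodA).2 θ hθ
    obtain ⟨μ, hμc, -, hμmul, -, -, -, hμL⟩ := hkey _ le_sup_left hgoodA χA hχA hχAθ
    have hφmem : ∀ a : E, (a : G) ^ e ∈ N ⊔ φ₀.range := fun a =>
      (le_sup_right : φ₀.range ≤ N ⊔ φ₀.range) ⟨a, rfl⟩
    let φ' : E →* ↥(N ⊔ φ₀.range) :=
      { toFun := fun a => ⟨(a : G) ^ e, hφmem a⟩
        map_one' := Subtype.ext (one_pow e)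
        map_mul' := fun a b => Subtype.ext (he3 E q hq hE a b) }
    refine ⟨fun a : E => conj (μ (φ' a)), 0, ?_, Helper80.isCharacter_zero, ?_⟩
    · exact Helper80.isCharacter_comp φ' (Helper80.isCharacter_conj hμc)
    · rw [sub_zero]
      funext a
      show Λ (a : G) = conj (μ (φ' a))
      rw [hΛv, hμL (a : G) (hφmem a)]
      rfl
  have hint : ∀ ψ' : Cfsg.IrrCharacter G, ∃ m : ℤ, Cfsg.classInner Λ (ψ' : G → ℂ) = m := by
    intro ψ'
    obtain ⟨a, b, ha, hb, hab⟩ := hgen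
    obtain ⟨m₁, hm₁⟩ := Helper80.classInner_nat ha (Helper80.isCharacter_of_isIrrCharacter ψ'.2)
    obtain ⟨m₂, hm₂⟩ := Helper80.classInner_nat hb (Helper80.isCharacter_of_isIrrCharacter ψ'.2)
    refine ⟨(m₁ : ℤ) - m₂, ?_⟩
    have h1 : Cfsg.classInner Λ (ψ' : G → ℂ) =
        Cfsg.classInner a (ψ' : G → ℂ) - Cfsg.classInner b (ψ' : G → ℂ) := by
      rw [hab]
      unfold Cfsg.classInner
      simp only [Pi.sub_apply, sub_mul, Finset.sum_sub_distrib, mul_sub]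
    rw [h1, hm₁, hm₂]
    push_cast
    ring
  have hG0 : (Nat.card G : ℂ) ≠ 0 := by exact_mod_cast (Nat.card_pos (α := G)).ne'
  have hnorm : Cfsg.classInner Λ Λ = 1 := by
    unfold Cfsg.classInner
    have h1 : ∀ g : G, Λ g * conj (Λ g) = 1 := by
      intro g
      rw [hΛv, Complex.conj_conj, mul_comm]
      exact hLnorm g
    rw [Finset.sum_congr rfl (fun g _ => h1 g), Finset.sum_const, Finset.card_univ,
      nsmul_eq_mul, mul_one, ← Nat.card_eq_fintype_card, inv_mul_cancel₀ hG0]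
  have hpos : 0 < (Λ 1).re := by
    rw [hΛv, hL1]
    simp
  have hΛirr : Cfsg.IsIrrCharacter G Λ := Lead.isIrrCharacter_of_int hcf hint hnorm hpos
  have hψN : Cfsg.IsIrrCharacter N (fun n : N => (ψ : G → ℂ) n) := by
    have h1 : (fun n : N => (ψ : G → ℂ) n) = (θ : N → ℂ) := funext hψ
    rw [h1]
    exact θ.2
  have hΛN : ∀ n : N, Λ n = Λ 1 := by
    intro n
    rw [hΛv, hΛv, hLN n n.2, hL1]
  have hχirr : Cfsg.IsIrrCharacter G (Λ * (ψ : G → ℂ)) :=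
    Helper75.gallagher_irr N ψ.2 hψN hΛirr hΛN
  have hχN : ∀ n : N, (Λ * (ψ : G → ℂ)) n = (θ : N → ℂ) n := by
    intro n
    show Λ n * (ψ : G → ℂ) n = _
    rw [hΛv, hLN n n.2, hψ n]
    simp
  -- the values at the `p`-regular elements
  have hχval : ∀ g : G, ¬ p ∣ orderOf g →
      (Λ * (ψ : G → ℂ)) g =
        (X g : ↥(N ⊔ Subgroup.zpowers (g ^ e)) → ℂ) ⟨g ^ e, hmem (g ^ e)⟩ := by
    intro g hg
    have hge : g ^ e = g := he2 g hg
    obtain ⟨μ, -, hμnorm, -, hμval, hμL⟩ := hself g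
    show Λ g * (ψ : G → ℂ) g = _
    have h1 : (ψ : G → ℂ) g = μ ⟨g ^ e, hmem (g ^ e)⟩ *
        (X g : ↥(N ⊔ Subgroup.zpowers (g ^ e)) → ℂ) ⟨g ^ e, hmem (g ^ e)⟩ := by
      have h2 := hμval ⟨g ^ e, hmem (g ^ e)⟩
      rw [← h2]
      show (ψ : G → ℂ) g = (ψ : G → ℂ) (g ^ e)
      rw [hge]
    rw [hΛv, hμL, h1, ← mul_assoc, mul_comm (conj _), hμnorm, one_mul]
  refine ⟨⟨Λ * (ψ : G → ℂ), hχirr⟩, hχN, ?_⟩
  intro J hNJ
  haveI : Fintype J := Fintype.ofFinite _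
  have hξc : Cfsg.IsCharacter J (fun y : J => (Λ * (ψ : G → ℂ)) y) :=
    Helper80.isCharacter_restrict J (Helper80.isCharacter_of_isIrrCharacter hχirr)
  have hξirr : Cfsg.IsIrrCharacter J (fun y : J => (Λ * (ψ : G → ℂ)) y) := by
    apply Helper81.isIrrCharacter_of_comp_irr (Subgroup.inclusion hNJ) hξc
    have h3 : (fun q : N => (Λ * (ψ : G → ℂ)) ((Subgroup.inclusion hNJ q : J) : G)) =
        (θ : N → ℂ) := funext hχN
    rw [h3]
    exact θ.2
  refine ⟨⟨_, hξirr⟩, ?_, fun y => rfl⟩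
  apply mem_principalBlock_of_regular hM
  intro g hg
  have hc : ¬ p ∣ orderOf (g : G) := by rwa [Subgroup.orderOf_coe]
  have hce : (g : G) ^ e = (g : G) := he2 _ hc
  have h1 := hX1 (g : G) ⟨(g : G) ^ e, hmem ((g : G) ^ e)⟩
  have hidxA : (Subgroup.centralizer
      ({(⟨(g : G) ^ e, hmem ((g : G) ^ e)⟩ : ↥(N ⊔ Subgroup.zpowers ((g : G) ^ e)))} :
        Set ↥(N ⊔ Subgroup.zpowers ((g : G) ^ e)))).index =
      (Subgroup.centralizer ({(g : G)} : Set G)).relIndex (N ⊔ Subgroup.zpowers (g : G)) := by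
    rw [Helper81.centralizer_subtype_eq (N ⊔ Subgroup.zpowers ((g : G) ^ e)) ((g : G) ^ e)
      (hmem ((g : G) ^ e))]
    show (Subgroup.centralizer ({(g : G) ^ e} : Set G)).relIndex
      (N ⊔ Subgroup.zpowers ((g : G) ^ e)) = _
    rw [hce]
  have hidxJ : (Subgroup.centralizer ({g} : Set J)).index =
      (Subgroup.centralizer ({(g : G)} : Set G)).relIndex J := by
    have h2 := Helper81.centralizer_subtype_eq J (g : G) g.2
    show (Subgroup.centralizer ({(⟨(g : G), g.2⟩ : J)} : Set J)).index = _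
    rw [h2]
    rfl
  have hX1v : (X (g : G) : ↥(N ⊔ Subgroup.zpowers ((g : G) ^ e)) → ℂ) 1 =
      (Λ * (ψ : G → ℂ)) 1 := by
    have h2 := hX2 (g : G) 1
    have h3 := hχN 1
    rw [map_one] at h2
    rw [h2, ← h3]
    rfl
  have hXv : (X (g : G) : ↥(N ⊔ Subgroup.zpowers ((g : G) ^ e)) → ℂ)
      ⟨(g : G) ^ e, hmem ((g : G) ^ e)⟩ = (Λ * (ψ : G → ℂ)) (g : G) :=
    (hχval (g : G) hc).symm
  have e0 : Cfsg.centralChar (fun _ : ↥(N ⊔ Subgroup.zpowers ((g : G) ^ e)) => (1 : ℂ))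
      ⟨(g : G) ^ e, hmem ((g : G) ^ e)⟩ =
      ((Subgroup.centralizer ({(g : G)} : Set G)).relIndex (N ⊔ Subgroup.zpowers (g : G)) : ℂ) := by
    unfold Cfsg.centralChar
    rw [hidxA]
    simp
  have e1 : Cfsg.centralChar (X (g : G) : ↥(N ⊔ Subgroup.zpowers ((g : G) ^ e)) → ℂ)
      ⟨(g : G) ^ e, hmem ((g : G) ^ e)⟩ =
      ((Subgroup.centralizer ({(g : G)} : Set G)).relIndex (N ⊔ Subgroup.zpowers (g : G)) : ℂ) *
        (Λ * (ψ : G → ℂ)) (g : G) / (Λ * (ψ : G → ℂ)) 1 := by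
    unfold Cfsg.centralChar
    rw [hidxA, hXv, hX1v]
  rw [e0, e1] at h1
  have hrel := relIndex_centralizer_eq N J hNJ (g : G)
  have e2 : Cfsg.centralChar (fun _ : J => (1 : ℂ)) g -
      Cfsg.centralChar (fun y : J => (Λ * (ψ : G → ℂ)) y) g =
      ((N ⊔ (Subgroup.centralizer ({(g : G)} : Set G) ⊓ J)).relIndex J : ℂ) *
        (((Subgroup.centralizer ({(g : G)} : Set G)).relIndex (N ⊔ Subgroup.zpowers (g : G)) : ℂ) -
          ((Subgroup.centralizer ({(g : G)} : Set G)).relIndex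
            (N ⊔ Subgroup.zpowers (g : G)) : ℂ) *
            (Λ * (ψ : G → ℂ)) (g : G) / (Λ * (ψ : G → ℂ)) 1) := by
    unfold Cfsg.centralChar
    rw [hidxJ, hrel]
    push_cast
    show _ * _ * (1 : ℂ) / 1 - _ * _ * (Λ * (ψ : G → ℂ)) (g : G) / (Λ * (ψ : G → ℂ)) 1 = _
    ring
  show Cfsg.MemLocalIdeal M (Cfsg.centralChar (fun _ : J => (1 : ℂ)) g -
      Cfsg.centralChar (fun y : J => (Λ * (ψ : G → ℂ)) y) g)
  rw [e2]
  exact Helper16.memLocalIdeal_mul_left hMp (Helper16.memLocalRing_natCast hMp _) h1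

end Main

end Cfsg.Agent.Lib.Helper74.ADExt
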