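-- Galois-orbit AM-GM inequality for character-like functions (built on helper76's S4574 toolkit).
import Mathlib
import Cfsg.Agent.S4574

set_option autoImplicit false
open scoped ComplexConjugate
open Polynomial

namespace Cfsg.Agent.Lib.Helper74

/-- The standard primitive `N`-th root of unity. -/
noncomputable def zetaN (N : ℕ) : ℂ := Complex.exp (2 * Real.pi * Complex.I / (N : ℂ))

theorem zetaN_primitive {N : ℕ} (hN : 0 < N) : IsPrimitiveRoot (zetaN N) N :=
  Complex.isPrimitiveRoot_exp N hN.ne'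

/-- A function on a finite group is of *cyclotomic type* if along the powers of every element
it is given by an integer polynomial evaluated at the powers of a fixed primitive root of
unity.  Characters are of cyclotomic type. -/
def CycloType {G : Type*} [Group G] [Fintype G] (f : G → ℂ) : Prop :=
  ∀ g : G, ∃ F : ℤ[X], ∀ k : ℕ, f (g ^ k) = aeval (zetaN (Fintype.card G) ^ k) F

section

variable {G : Type*} [Group G] [Fintype G]

theorem cycloType_character {V : Type*} [AddCommGroup V] [Module ℂ V] [FiniteDimensional ℂ V]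
    (ρ : Representation ℂ G V) : CycloType ρ.character := by
  intro g
  have hN : 0 < Fintype.card G := Fintype.card_pos
  obtain ⟨ι, hι, d, hd, -, hk⟩ :=
    Cfsg.Agent.S4574.exists_eigen_pow ρ g (Fintype.card G) hN pow_card_eq_one
  obtain ⟨F, hF⟩ := Cfsg.Agent.S4574.exists_poly d (Fintype.card G) hN hd _ (zetaN_primitive hN)
  exact ⟨F, fun k => (hk k).trans (hF k)⟩

theorem cycloType_of_isCharacter {χ : G → ℂ} (hχ : Cfsg.IsCharacter G χ) : CycloType χ := by
  obtain ⟨n, ρ, rfl⟩ := hχ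
  exact cycloType_character ρ

theorem CycloType.add {f₁ f₂ : G → ℂ} (h₁ : CycloType f₁) (h₂ : CycloType f₂) :
    CycloType (fun g => f₁ g + f₂ g) := by
  intro g
  obtain ⟨F₁, hF₁⟩ := h₁ g
  obtain ⟨F₂, hF₂⟩ := h₂ g
  exact ⟨F₁ + F₂, fun k => by
    show f₁ (g ^ k) + f₂ (g ^ k) = _
    rw [hF₁, hF₂, map_add]⟩

theorem CycloType.mul {f₁ f₂ : G → ℂ} (h₁ : CycloType f₁) (h₂ : CycloType f₂) :
    CycloType (fun g => f₁ g * f₂ g) := by
  intro g
  obtain ⟨F₁, hF₁⟩ := h₁ g
  obtain ⟨F₂, hF₂⟩ := h₂ g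
  exact ⟨F₁ * F₂, fun k => by
    show f₁ (g ^ k) * f₂ (g ^ k) = _
    rw [hF₁, hF₂, map_mul]⟩

/-- AM-GM over the primitive roots, for an arbitrary exponent. -/
theorem sum_norm_pow_ge (F : ℤ[X]) (N : ℕ) (hN : 0 < N) (ζ : ℂ) (hζ : IsPrimitiveRoot ζ N)
    (h0 : aeval ζ F ≠ 0) (r : ℕ) :
    ((primitiveRoots N ℂ).card : ℝ) ≤ ∑ μ ∈ primitiveRoots N ℂ, ‖aeval μ F‖ ^ r := by
  apply Cfsg.Agent.S4574.card_le_sum_of_one_le_prod
  · intro μ hμ
    have hμ' := (mem_primitiveRoots hN).1 hμ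
    have : aeval μ F ≠ 0 := fun h =>
      h0 (Cfsg.Agent.S4574.aeval_eq_zero_of_primitive F N hN μ ζ hμ' hζ h)
    positivity
  · obtain ⟨z, hz⟩ := Cfsg.Agent.S4574.exists_int_prod F N hN
    rw [Finset.prod_pow, ← norm_prod, ← hz]
    have hz0 : z ≠ 0 := by
      rintro rfl
      rw [Int.cast_zero] at hz
      obtain ⟨μ, hμ, h⟩ := Finset.prod_eq_zero_iff.1 hz.symm
      exact h0 (Cfsg.Agent.S4574.aeval_eq_zero_of_primitive F N hN μ ζ
        ((mem_primitiveRoots hN).1 hμ) hζ h)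
    have h1 : (1 : ℝ) ≤ ‖(z : ℂ)‖ := by
      rw [Complex.norm_intCast]
      exact_mod_cast Int.one_le_abs hz0
    exact one_le_pow₀ h1

/-- **Galois-orbit AM-GM.**  If `f` is of cyclotomic type (e.g. a character), `T` is a set of
group elements closed under the power maps `g ↦ g ^ k` (`k` coprime to the group order) and
`f` does not vanish on `T`, then `∑_{g ∈ T} ‖f g‖ ^ r ≥ |T|`. -/
theorem card_le_sum_norm_pow {f : G → ℂ} (hf : CycloType f) (r : ℕ) (T : Finset G)
    (hT : ∀ g ∈ T, ∀ k : ℕ, k.Coprime (Fintype.card G) → g ^ k ∈ T)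
    (hne : ∀ g ∈ T, f g ≠ 0) : (T.card : ℝ) ≤ ∑ g ∈ T, ‖f g‖ ^ r := by
  classical
  set N := Fintype.card G with hNdef
  have hN : 0 < N := Fintype.card_pos
  set ζ : ℂ := zetaN N with hζdef
  have hζ : IsPrimitiveRoot ζ N := zetaN_primitive hN
  have hNZ : NeZero N := ⟨hN.ne'⟩
  have hswap : ∀ k : ℕ, k.Coprime N → ∑ g ∈ T, ‖f (g ^ k)‖ ^ r = ∑ g ∈ T, ‖f g‖ ^ r := by
    intro k hk
    have hinj : Function.Injective (fun g : G => g ^ k) :=
      (powCoprime (G := G) (n := k) (by rw [Nat.card_eq_fintype_card]; exact hk.symm)).injective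
    have himg : T.image (fun g => g ^ k) = T := by
      apply Finset.eq_of_subset_of_card_le
      · intro x hx
        obtain ⟨g, hg, rfl⟩ := Finset.mem_image.1 hx
        exact hT g hg k hk
      · rw [Finset.card_image_of_injective _ hinj]
    conv_rhs => rw [← himg]
    rw [Finset.sum_image (fun x _ y _ h => hinj h)]
  have hex : ∀ μ ∈ primitiveRoots N ℂ, ∃ i : ℕ, i.Coprime N ∧ ζ ^ i = μ := by
    intro μ hμ
    rw [mem_primitiveRoots hN, hζ.isPrimitiveRoot_iff] at hμ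
    obtain ⟨i, _, hi, h⟩ := hμ
    exact ⟨i, hi, h⟩
  choose! kf hkf using hex
  have h1 : ∑ μ ∈ primitiveRoots N ℂ, ∑ g ∈ T, ‖f (g ^ kf μ)‖ ^ r =
      (primitiveRoots N ℂ).card * ∑ g ∈ T, ‖f g‖ ^ r := by
    rw [Finset.sum_congr rfl (fun μ hμ => hswap (kf μ) (hkf μ hμ).1), Finset.sum_const,
      nsmul_eq_mul]
  have h2 : ∀ g ∈ T, ((primitiveRoots N ℂ).card : ℝ) ≤
      ∑ μ ∈ primitiveRoots N ℂ, ‖f (g ^ kf μ)‖ ^ r := by
    intro g hg
    obtain ⟨F, hF⟩ := hf g
    have h0 : aeval ζ F ≠ 0 := by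
      have h3 := hne g hg
      have h4 := hF 1
      simp only [pow_one] at h4
      rw [← h4]
      exact h3
    refine (sum_norm_pow_ge F N hN ζ hζ h0 r).trans (le_of_eq ?_)
    refine Finset.sum_congr rfl (fun μ hμ => ?_)
    rw [hF, (hkf μ hμ).2]
  have h3 : (T.card : ℝ) * (primitiveRoots N ℂ).card ≤
      ∑ g ∈ T, ∑ μ ∈ primitiveRoots N ℂ, ‖f (g ^ kf μ)‖ ^ r := by
    calc (T.card : ℝ) * (primitiveRoots N ℂ).card
        = ∑ g ∈ T, ((primitiveRoots N ℂ).card : ℝ) := by rw [Finset.sum_const, nsmul_eq_mul]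
      _ ≤ _ := Finset.sum_le_sum h2
  rw [Finset.sum_comm, h1] at h3
  have hpos : (0 : ℝ) < (primitiveRoots N ℂ).card := by
    have : ζ ∈ primitiveRoots N ℂ := (mem_primitiveRoots hN).2 hζ
    exact_mod_cast Finset.card_pos.2 ⟨ζ, this⟩
  rw [mul_comm] at h3
  exact le_of_mul_le_mul_left h3 hpos

/-- The set of non-zeros of a function of cyclotomic type is closed under coprime powers. -/
theorem CycloType.pow_ne_zero {f : G → ℂ} (hf : CycloType f) {g : G} (hg : f g ≠ 0) {k : ℕ}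
    (hk : k.Coprime (Fintype.card G)) : f (g ^ k) ≠ 0 := by
  have hN : 0 < Fintype.card G := Fintype.card_pos
  obtain ⟨F, hF⟩ := hf g
  intro h0
  apply hg
  rw [hF] at h0
  have := Cfsg.Agent.S4574.aeval_eq_zero_of_primitive F (Fintype.card G) hN
    (zetaN (Fintype.card G) ^ k) (zetaN (Fintype.card G))
    ((zetaN_primitive hN).pow_of_coprime k hk) (zetaN_primitive hN) h0
  have h1 := hF 1
  simp only [pow_one] at h1
  rw [h1]
  exact this

end

end Cfsg.Agent.Lib.Helper74
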