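import Mathlib

/-!
# The Kaloujnine–Krasner embedding into a regular wreath product
-/

set_option autoImplicit false

namespace Cfsg.Agent.Lib.Helper74.MG

universe u

/-- an injective homomorphism of the bottom groups induces one of the regular wreath products -/
theorem wreath_map {D D' Q : Type*} [Group D] [Group D'] [Group Q] (f : D →* D')
    (hf : Function.Injective f) :
    ∃ F : RegularWreathProduct D Q →* RegularWreathProduct D' Q, Function.Injective F := by
  refine ⟨{ toFun := fun w => ⟨fun q => f (w.left q), w.right⟩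
            map_one' := ?_
            map_mul' := ?_ }, ?_⟩
  · exact RegularWreathProduct.ext (funext fun q => map_one f) rfl
  · intro a b
    exact RegularWreathProduct.ext (funext fun q => map_mul f _ _) rfl
  · intro a b h
    have h1 : (fun q => f (a.left q)) = fun q => f (b.left q) :=
      congrArg (fun w : RegularWreathProduct D' Q => w.left) h
    have h2 : a.right = b.right := congrArg (fun w : RegularWreathProduct D' Q => w.right) h
    exact RegularWreathProduct.ext (funext fun q => hf (congrFun h1 q)) h2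

/-- **Kaloujnine–Krasner**: a group embeds in the regular wreath product of a normal subgroup
with the quotient. -/
theorem kk_embed {G : Type u} [Group G] (N : Subgroup G) [N.Normal] :
    ∃ f : G →* RegularWreathProduct N (G ⧸ N), Function.Injective f := by
  obtain ⟨s, hs⟩ : ∃ s : G ⧸ N → G, ∀ q, (s q : G ⧸ N) = q :=
    ⟨fun q => Quotient.out q, fun q => QuotientGroup.out_eq' q⟩
  have hmem : ∀ (g : G) (q : G ⧸ N), (s q)⁻¹ * g * s ((g : G ⧸ N)⁻¹ * q) ∈ N := by
    intro g q
    rw [← QuotientGroup.eq_one_iff, QuotientGroup.mk_mul, QuotientGroup.mk_mul,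
      QuotientGroup.mk_inv, hs, hs]
    group
  refine ⟨{ toFun := fun g =>
              ⟨fun q => ⟨(s q)⁻¹ * g * s ((g : G ⧸ N)⁻¹ * q), hmem g q⟩, (g : G ⧸ N)⟩
            map_one' := ?_
            map_mul' := ?_ }, ?_⟩
  · apply RegularWreathProduct.ext
    · funext q
      apply Subtype.ext
      show (s q)⁻¹ * 1 * s (((1 : G) : G ⧸ N)⁻¹ * q) = 1
      rw [QuotientGroup.mk_one, inv_one, one_mul, mul_one, inv_mul_cancel]
    · rfl
  · intro a b
    apply RegularWreathProduct.ext
    · funext q
      apply Subtype.ext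
      show (s q)⁻¹ * (a * b) * s (((a * b : G) : G ⧸ N)⁻¹ * q) =
        ((s q)⁻¹ * a * s ((a : G ⧸ N)⁻¹ * q)) *
          ((s ((a : G ⧸ N)⁻¹ * q))⁻¹ * b * s ((b : G ⧸ N)⁻¹ * ((a : G ⧸ N)⁻¹ * q)))
      rw [QuotientGroup.mk_mul, mul_inv_rev, mul_assoc ((b : G ⧸ N)⁻¹)]
      group
    · rfl
  · intro a b h
    have h1 := congrArg (fun w : RegularWreathProduct N (G ⧸ N) => w.left) h
    have h2 : (a : G ⧸ N) = b := congrArg (fun w : RegularWreathProduct N (G ⧸ N) => w.right) h
    have h3 : (s 1)⁻¹ * a * s ((a : G ⧸ N)⁻¹ * 1) = (s 1)⁻¹ * b * s ((b : G ⧸ N)⁻¹ * 1) :=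
      congrArg Subtype.val (congrFun h1 1)
    rw [h2] at h3
    exact mul_left_cancel (mul_right_cancel h3)

end Cfsg.Agent.Lib.Helper74.MG
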