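import Mathlib
import Cfsg.Prelude.Def_Characters
import Cfsg.Agent.Lib.Helper81.RelM
import Cfsg.Agent.Lib.Helper15.Mackey
import Cfsg.Agent.Lib.Helper15.LinChar
import Cfsg.Agent.Lib.Helper75.Gallagher
import Cfsg.Agent.Lib.Helper75.CharInd
import Cfsg.Agent.Lib.Helper3.Monomial
import Cfsg.Agent.Lib.Helper3.CharValues
import Cfsg.Agent.Lib.Helper80.CharKer
import Cfsg.Agent.Lib.Helper80.PrimTwo
import Cfsg.Agent.Lib.Helper97.SchmidtStruct
import Cfsg.Agent.Lib.Helper74.MGP1
import Cfsg.Agent.Lib.Helper80.MGP2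
import Cfsg.Agent.Lib.Helper80.MGP3
import Cfsg.Agent.Lib.Helper3.MGP4
import Cfsg.Agent.Lib.Helper3.MGP5
import Cfsg.Agent.Lib.Helper3.MGP6

/-!
# Every finite solvable group embeds in an M-group (Dade)

Assembly: the regular wreath product of an M-group with a group of prime order is an
M-group, and the Kaloujnine–Krasner embedding.
-/

set_option autoImplicit false

namespace Cfsg.Agent.Lib.Helper74.MG

open scoped ComplexConjugate
open Cfsg.Agent.Lib

universe u

/-- `M` is an M-group: every irreducible character is induced from a linear character. -/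
def IsM (M : Type u) [Group M] [Fintype M] : Prop :=
  ∀ χ : M → ℂ, Cfsg.IsIrrCharacter M χ →
    ∃ (H : Subgroup M) (lam : ↥H →* ℂˣ), χ = Cfsg.indFun H (fun h => (lam h : ℂ))

/-- a homomorphism into `ℂˣ` is a class function -/
theorem hom_isClassFunction {G : Type u} [Group G] (f : G →* ℂˣ) :
    Cfsg.IsClassFunction G (fun g => ((f g : ℂˣ) : ℂ)) := by
  intro g h
  show ((f (h * g * h⁻¹) : ℂˣ) : ℂ) = f g
  rw [map_mul, map_mul, map_inv, mul_comm, inv_mul_cancel_left]

/-- commutative groups are M-groups -/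
theorem isM_of_comm {M : Type u} [Group M] [Fintype M] (hc : ∀ a b : M, a * b = b * a) :
    IsM M := by
  intro χ hχ
  have h1 : χ 1 = 1 := Helper80.irr_one_eq_one_of_comm hc ⟨χ, hχ⟩
  have hχc := Helper3.isCharacter_of_irr hχ
  refine ⟨⊤, (Helper15.linCharHom hχc h1).comp (⊤ : Subgroup M).subtype, ?_⟩
  exact (Helper3.indFun_top_eq (Helper3.isClassFunction_of_isCharacter hχc)).symm

/-- a subgroup of prime index satisfies the non-square chief factor hypothesis -/
theorem nonSqChief_of_prime_index {G : Type u} [Group G] (B : Subgroup G)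
    (hp : B.index.Prime) : Helper81.NonSqChief B := by
  intro H K L hBL hLK hKH _ _ _
  have h1 : B.relIndex L * L.index = B.index := Subgroup.relIndex_mul_index hBL
  have h2 : L.relIndex K * K.index = L.index := Subgroup.relIndex_mul_index hLK.le
  have hd : L.relIndex K ∣ B.index := ⟨B.relIndex L * K.index, by rw [← h1, ← h2]; ring⟩
  have hne : L.relIndex K ≠ 1 := fun h => hLK.not_ge (Subgroup.relIndex_eq_one.mp h)
  have h3 : L.relIndex K = B.index := ((Nat.dvd_prime hp).mp hd).resolve_left hne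
  rw [h3]
  exact hp.prime.irreducible.not_isSquare

section Wreath

variable (M Q : Type u) [Group M] [Group Q]

/-- the base group of the regular wreath product -/
def baseGrp : Subgroup (M ≀ᵣ Q) := (RegularWreathProduct.rightHom : M ≀ᵣ Q →* Q).ker

theorem mem_baseGrp {w : M ≀ᵣ Q} : w ∈ baseGrp M Q ↔ w.right = 1 := MonoidHom.mem_ker

instance baseGrp_normal : (baseGrp M Q).Normal := MonoidHom.normal_ker _

theorem baseGrp_index : (baseGrp M Q).index = Nat.card Q := by
  have h := Subgroup.index_ker (RegularWreathProduct.rightHom : M ≀ᵣ Q →* Q)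
  have hs : Function.Surjective (RegularWreathProduct.rightHom : M ≀ᵣ Q →* Q) :=
    fun q => ⟨RegularWreathProduct.inl q, rfl⟩
  rw [show baseGrp M Q = (RegularWreathProduct.rightHom : M ≀ᵣ Q →* Q).ker from rfl, h,
    MonoidHom.range_eq_top.mpr hs, Subgroup.card_top]

/-- the base group is the function group -/
def bE : (Q → M) ≃* baseGrp M Q where
  toFun f := ⟨⟨f, 1⟩, (mem_baseGrp M Q).2 rfl⟩
  invFun b := b.1.left
  left_inv f := rfl
  right_inv b := Subtype.ext
    (RegularWreathProduct.ext rfl ((mem_baseGrp M Q).1 b.2).symm)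
  map_mul' f g := Subtype.ext (RegularWreathProduct.ext
    (funext fun x => by
      show f x * g x = f x * g (1⁻¹ * x)
      rw [inv_one, one_mul])
    (by
      show (1 : Q) = 1 * 1
      rw [one_mul]))

/-- projection of the base group onto the function group -/
def leftHom : baseGrp M Q →* (Q → M) := (bE M Q).symm.toMonoidHom

theorem leftHom_apply (b : baseGrp M Q) : leftHom M Q b = b.1.left := rfl

variable {M Q}

/-- the product of linear characters, on the product subgroup -/
noncomputable def piLam [Fintype Q] (Hq : Q → Subgroup M) (lam : ∀ q, ↥(Hq q) →* ℂˣ) :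
    ↥(Subgroup.pi Set.univ Hq) →* ℂˣ where
  toFun f := ∏ q, lam q ⟨f.1 q, f.2 q (Set.mem_univ q)⟩
  map_one' := Finset.prod_eq_one (fun q _ => map_one (lam q))
  map_mul' a b := by
    rw [← Finset.prod_mul_distrib]
    refine Finset.prod_congr rfl (fun q _ => ?_)
    rw [← map_mul]
    rfl

/-- a function on the base group which is a product of induced linear characters is induced
from a linear character -/
theorem base_eq_ind [Fintype Q] [Fintype M] [Fintype (Q → M)] [Fintype (baseGrp M Q)]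
    (Hq : Q → Subgroup M) (lam : ∀ q, ↥(Hq q) →* ℂˣ) (ψ : baseGrp M Q → ℂ)
    (hψ : ∀ b : baseGrp M Q,
      ψ b = ∏ q, Cfsg.indFun (Hq q) (fun h => ((lam q h : ℂˣ) : ℂ)) (b.1.left q)) :
    ψ = Cfsg.indFun ((Subgroup.pi Set.univ Hq).comap (leftHom M Q))
          (fun y => ((piLam Hq lam ⟨leftHom M Q y, y.2⟩ : ℂˣ) : ℂ)) := by
  funext b
  rw [hψ b]
  have h3 := congrFun (indFun_pi Hq (fun q h => ((lam q h : ℂˣ) : ℂ))) (b.1.left)
  have h4 := Helper15.indFun_comp_hom (leftHom M Q) (Subgroup.pi Set.univ Hq)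
    (fun g => ⟨bE M Q g, 1, Subgroup.one_mem _, by rw [mul_one]; rfl⟩)
    (fun f => ((piLam Hq lam f : ℂˣ) : ℂ)) (hom_isClassFunction _) b
  rw [← h4, leftHom_apply, ← h3]
  congr 1
  funext f
  show _ = ((∏ q, lam q ⟨f.1 q, f.2 q (Set.mem_univ q)⟩ : ℂˣ) : ℂ)
  rw [Units.coe_prod]

/-- the wreath product of a subgroup, inside the wreath product -/
def HW (H₀ : Subgroup M) : Subgroup (M ≀ᵣ Q) where
  carrier := {w | ∀ q, w.left q ∈ H₀}
  one_mem' := fun _ => H₀.one_mem
  mul_mem' := fun {_ _} ha hb q => H₀.mul_mem (ha q) (hb _)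
  inv_mem' := fun {_} ha _ => H₀.inv_mem (ha _)

/-- the product linear character of the wreath product of a subgroup -/
noncomputable def lamHat [Fintype Q] (H₀ : Subgroup M) (lam₀ : ↥H₀ →* ℂˣ) :
    ↥(HW (Q := Q) H₀) →* ℂˣ where
  toFun w := ∏ q, lam₀ ⟨w.1.left q, w.2 q⟩
  map_one' := Finset.prod_eq_one (fun _ _ => map_one lam₀)
  map_mul' a b := by
    have h1 : ∀ q, (⟨(a * b).1.left q, (a * b).2 q⟩ : H₀) =
        ⟨a.1.left q, a.2 q⟩ * ⟨b.1.left (a.1.right⁻¹ * q), b.2 _⟩ := fun q => rfl
    simp only [h1, map_mul]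
    rw [Finset.prod_mul_distrib]
    congr 1
    exact Fintype.prod_equiv (Equiv.mulLeft a.1.right⁻¹) _ _ (fun q => rfl)

/-- **Key lemma**: the regular wreath product of an M-group with a group of prime order is an
M-group. -/
theorem isM_wreath [Fintype M] [Fintype (M ≀ᵣ Q)] [Finite Q] (hM : IsM M)
    (hQ : (Nat.card Q).Prime) : IsM (M ≀ᵣ Q) := by
  classical
  intro χ hχ
  haveI : Fintype Q := Fintype.ofFinite Q
  haveI : Fintype (Q → M) := Fintype.ofFinite _
  haveI : Fintype (baseGrp M Q) := Fintype.ofFinite _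
  have hQc : ∀ a b : Q, a * b = b * a := by
    haveI : Fact (Nat.card Q).Prime := ⟨hQ⟩
    haveI : IsCyclic Q := isCyclic_of_prime_card rfl
    intro a b
    exact mul_comm' a b
  have hBidx : (baseGrp M Q).index = Nat.card Q := baseGrp_index M Q
  have hsolv : Group.IsSolvable ((M ≀ᵣ Q) ⧸ baseGrp M Q) := by
    haveI : Group.IsSolvable Q := Group.isSolvable_of_comm hQc
    exact Group.isSolvable_of_isSolvable_injective
      (f := QuotientGroup.kerLift (RegularWreathProduct.rightHom : M ≀ᵣ Q →* Q))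
      (QuotientGroup.kerLift_injective _)
  have hns : Helper81.NonSqChief (baseGrp M Q) :=
    nonSqChief_of_prime_index _ (by rw [hBidx]; exact hQ)
  obtain ⟨H, hBH, ψ, hψ, hind, hres⟩ :=
    Helper81.relM_aux _ (M ≀ᵣ Q) (baseGrp M Q) rfl hsolv hns χ hχ
  -- decomposition of the restriction to the base group
  have hθ := Helper80.isIrrCharacter_comp_mulEquiv (bE M Q) hres
  obtain ⟨θ', hθ'irr, hθ'⟩ := irr_pi _ hθ
  choose Hq lam hlam using fun q => hM (θ' q) (hθ'irr q)
  have hresval : ∀ b : baseGrp M Q, ψ ⟨b.1, hBH b.2⟩ = ∏ q, θ' q (b.1.left q) := by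
    intro b
    have h1 := hθ' (b.1.left)
    have hb : bE M Q (b.1.left) = b := (bE M Q).right_inv b
    rw [hb] at h1
    exact h1
  have hH : H = baseGrp M Q ∨ H = ⊤ := by
    have h1 := Subgroup.relIndex_mul_index hBH
    rw [hBidx] at h1
    rcases (Nat.dvd_prime hQ).mp ⟨_, h1.symm⟩ with h | h
    · left
      exact le_antisymm (Subgroup.relIndex_eq_one.mp h) hBH
    · right
      rw [h] at h1
      have h2 : H.index = 1 := by
        have := hQ.pos
        nlinarith
      exact Subgroup.index_eq_one.mp h2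
  rcases hH with rfl | rfl
  · -- `χ` is induced from the base group
    have h5 := base_eq_ind Hq lam ψ (fun b => by
      rw [← funext (fun q => congrFun (hlam q) (b.1.left q))]
      exact hresval b)
    have h6 := Helper3.indFun_trans' (baseGrp M Q)
      ((Subgroup.pi Set.univ Hq).comap (leftHom M Q))
      (fun y => ((piLam Hq lam ⟨leftHom M Q y, y.2⟩ : ℂˣ) : ℂ))
    rw [← h5, hind] at h6
    refine ⟨((Subgroup.pi Set.univ Hq).comap (leftHom M Q)).map (baseGrp M Q).subtype,
      ((piLam Hq lam).comp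
      ((leftHom M Q).subgroupComap (Subgroup.pi Set.univ Hq))).comp
      (Subgroup.equivMapOfInjective ((Subgroup.pi Set.univ Hq).comap (leftHom M Q))
        (baseGrp M Q).subtype (baseGrp M Q).subtype_injective).symm.toMonoidHom, ?_⟩
    rw [h6]
    rfl
  · -- the restriction of `χ` to the base group is irreducible
    have hψcf := Helper3.isClassFunction_of_isCharacter (Helper3.isCharacter_of_irr hψ)
    have hχψ : ∀ w : M ≀ᵣ Q, χ w = ψ ⟨w, Subgroup.mem_top w⟩ := by
      have hcf' : Cfsg.IsClassFunction (M ≀ᵣ Q) (fun w => ψ ⟨w, Subgroup.mem_top w⟩) := by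
        intro g h
        exact hψcf ⟨g, Subgroup.mem_top g⟩ ⟨h, Subgroup.mem_top h⟩
      have h1 := Helper3.indFun_top_eq hcf'
      intro w
      rw [← hind]
      exact congrFun h1 w
    have hχcf := Helper3.isClassFunction_of_isCharacter (Helper3.isCharacter_of_irr hχ)
    have hχB : ∀ b : baseGrp M Q, χ b.1 = ∏ q, θ' q (b.1.left q) := by
      intro b
      rw [hχψ]
      exact hresval b
    have hresB : Cfsg.IsIrrCharacter (baseGrp M Q) (fun b : baseGrp M Q => χ b.1) := by
      have : (fun b : baseGrp M Q => χ b.1) = fun n : baseGrp M Q => ψ ⟨n.1, hBH n.2⟩ := by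
        funext b
        exact hχψ b.1
      rw [this]
      exact hres
    -- the family is constant
    have hinv : ∀ (c : Q) (f : Q → M), ∏ q, θ' q (f (c⁻¹ * q)) = ∏ q, θ' q (f q) := by
      intro c f
      have h1 : χ (bE M Q (fun x => f (c⁻¹ * x))).1 = ∏ q, θ' q (f (c⁻¹ * q)) := hχB _
      have h2 : χ (bE M Q f).1 = ∏ q, θ' q (f q) := hχB _
      have hconj : (bE M Q (fun x => f (c⁻¹ * x))).1 =
          RegularWreathProduct.inl c * (bE M Q f).1 * (RegularWreathProduct.inl c)⁻¹ := by
        apply RegularWreathProduct.ext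
        · funext x
          show f (c⁻¹ * x) = (1 : M) * f (c⁻¹ * x) * (1 : M)⁻¹
          rw [one_mul, inv_one, mul_one]
        · show (1 : Q) = c * 1 * c⁻¹
          rw [mul_one, mul_inv_cancel]
      rw [hconj, hχcf] at h1
      exact h1.symm.trans h2
    have hconst := irr_family_const θ' hθ'irr hinv
    have hχB' : ∀ b : baseGrp M Q, χ b.1 =
        ∏ q, Cfsg.indFun (Hq 1) (fun h => ((lam 1 h : ℂˣ) : ℂ)) (b.1.left q) := by
      intro b
      rw [hχB b]
      refine Finset.prod_congr rfl (fun q _ => ?_)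
      rw [hconst q 1]
      exact congrFun (hlam 1) _
    have h5 := base_eq_ind (fun _ : Q => Hq 1) (fun _ : Q => lam 1)
      (fun b : baseGrp M Q => χ b.1) hχB'
    -- the character induced from the wreath product of `Hq 1`
    obtain ⟨χ₀, hχ₀⟩ : ∃ χ₀ : M ≀ᵣ Q → ℂ, χ₀ = Cfsg.indFun (HW (Q := Q) (Hq 1))
        (fun h => ((lamHat (Hq 1) (lam 1) h : ℂˣ) : ℂ)) := ⟨_, rfl⟩
    have h6 : ∀ b : baseGrp M Q, χ₀ b.1 = χ b.1 := by
      intro b
      have hm := Helper15.indFun_comp_hom (baseGrp M Q).subtype (HW (Q := Q) (Hq 1))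
        (fun g => ⟨⟨g * (RegularWreathProduct.inl g.right)⁻¹, (mem_baseGrp M Q).2 (by
            show g.right * g.right⁻¹ = 1
            exact mul_inv_cancel _)⟩,
          RegularWreathProduct.inl g.right, fun _ => (Hq 1).one_mem,
          (inv_mul_cancel_right _ _).symm⟩)
        (fun h => ((lamHat (Hq 1) (lam 1) h : ℂˣ) : ℂ)) (hom_isClassFunction _) b
      rw [hχ₀]
      refine hm.trans ?_
      rw [show χ b.1 = _ from congrFun h5 b]
      refine congrFun (Helper3.indFun_congr ?_ _ _ ?_) b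
      · ext y
        rw [Subgroup.mem_comap, Subgroup.mem_comap, Subgroup.mem_pi]
        constructor
        · intro hy q _
          exact hy q
        · intro hy q
          exact hy q (Set.mem_univ q)
      · intro x h1 h2
        rfl
    have hsum : ∑ k : M ≀ᵣ Q,
        ((RegularWreathProduct.rightHom : M ≀ᵣ Q →* Q).ker : Set (M ≀ᵣ Q)).indicator
          (fun w => χ₀ w * conj (χ w)) k ≠ 0 := by
      have e2 : ∑ k ∈ Finset.univ.filter (fun k : M ≀ᵣ Q =>
            k ∈ ((RegularWreathProduct.rightHom : M ≀ᵣ Q →* Q).ker : Set (M ≀ᵣ Q))),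
            χ₀ k * conj (χ k) = ∑ b : baseGrp M Q, χ₀ b.1 * conj (χ b.1) :=
        Finset.sum_subtype _ (fun x => by
          rw [Finset.mem_filter]
          exact ⟨fun h => h.2, fun h => ⟨Finset.mem_univ _, h⟩⟩) _
      have e1 : ∑ k : M ≀ᵣ Q,
          ((RegularWreathProduct.rightHom : M ≀ᵣ Q →* Q).ker : Set (M ≀ᵣ Q)).indicator
            (fun w => χ₀ w * conj (χ w)) k = ∑ b : baseGrp M Q, χ b.1 * conj (χ b.1) := by
        simp only [Set.indicator_apply]
        rw [← Finset.sum_filter, e2]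
        refine Finset.sum_congr rfl (fun b _ => ?_)
        rw [h6 b]
      rw [e1]
      have h7 := Helper3.classInner_irr_self hresB
      unfold Cfsg.classInner at h7
      intro h0
      rw [h0, mul_zero] at h7
      exact zero_ne_one h7
    obtain ⟨μ, hμ⟩ := exists_hom_sum_ne_zero hQc (RegularWreathProduct.rightHom : M ≀ᵣ Q →* Q)
      (fun w => χ₀ w * conj (χ w)) hsum
    obtain ⟨βh, hβh⟩ : ∃ βh : M ≀ᵣ Q →* ℂˣ, βh = μ.comp RegularWreathProduct.rightHom :=
      ⟨_, rfl⟩
    obtain ⟨lam', hlam'⟩ : ∃ lam' : ↥(HW (Q := Q) (Hq 1)) →* ℂˣ,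
        lam' = βh.comp (HW (Q := Q) (Hq 1)).subtype * lamHat (Hq 1) (lam 1) := ⟨_, rfl⟩
    have e : Cfsg.indFun (HW (Q := Q) (Hq 1)) (fun h => ((lam' h : ℂˣ) : ℂ)) =
        (fun w => ((βh w : ℂˣ) : ℂ)) * χ₀ := by
      have h8 := Helper75.indFun_mul_res (HW (Q := Q) (Hq 1)) (hom_isClassFunction βh)
        (fun h => ((lamHat (Hq 1) (lam 1) h : ℂˣ) : ℂ))
      rw [hχ₀, ← h8, hlam']
      rfl
    refine ⟨HW (Q := Q) (Hq 1), lam', ?_⟩
    symm
    apply eq_irr_of_inner_ne_zero
      (Helper75.isCharacter_indFun _ (Helper15.isCharacter_of_hom _)) hχ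
    · rw [e]
      unfold Cfsg.classInner
      refine mul_ne_zero (inv_ne_zero (Nat.cast_ne_zero.mpr Nat.card_pos.ne')) ?_
      have e3 : ∑ g : M ≀ᵣ Q, ((fun w => ((βh w : ℂˣ) : ℂ)) * χ₀) g * conj (χ g) =
          ∑ k : M ≀ᵣ Q, ((μ (RegularWreathProduct.rightHom k) : ℂˣ) : ℂ) *
            (χ₀ k * conj (χ k)) := by
        refine Finset.sum_congr rfl (fun w _ => ?_)
        rw [Pi.mul_apply, hβh, mul_assoc]
        rfl
      rw [e3]
      exact hμ
    · rw [e, Pi.mul_apply, map_one, Units.val_one, one_mul]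
      exact h6 1

end Wreath

/-- **Dade**: every finite solvable group embeds in a finite M-group. -/
theorem exists_embed : ∀ (n : ℕ) (G : Type u) [Group G] [Finite G], Nat.card G = n →
    Group.IsSolvable G →
    ∃ (M : Type u) (_ : Group M) (_ : Fintype M), IsM M ∧ ∃ f : G →* M, Function.Injective f := by
  intro n
  induction n using Nat.strong_induction_on with
  | _ n ih =>
  intro G _ _ hn hsolv
  by_cases hnt : Nontrivial G
  · obtain ⟨N, hN, hp⟩ := Helper97.exists_normal_prime_index (G := G)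
    have hlt : Nat.card N < n := by
      have h1 := Subgroup.card_mul_index N
      have h2 := hp.two_le
      have h3 : 0 < Nat.card N := Nat.card_pos
      rw [← hn]
      nlinarith
    obtain ⟨M', gM', fM', hM', f', hf'⟩ := ih (Nat.card N) hlt N rfl inferInstance
    haveI : Finite M' := Finite.of_fintype M'
    letI : Fintype (M' ≀ᵣ (G ⧸ N)) := Fintype.ofFinite _
    refine ⟨M' ≀ᵣ (G ⧸ N), inferInstance, inferInstance, isM_wreath hM' hp, ?_⟩
    obtain ⟨k, hk⟩ := kk_embed N
    obtain ⟨F, hF⟩ := wreath_map (Q := G ⧸ N) f' hf'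
    exact ⟨F.comp k, hF.comp hk⟩
  · haveI : Subsingleton G := not_nontrivial_iff_subsingleton.mp hnt
    letI : Fintype G := Fintype.ofFinite G
    exact ⟨G, inferInstance, inferInstance, isM_of_comm (fun a b => Subsingleton.elim _ _),
      MonoidHom.id G, Function.injective_id⟩

end Cfsg.Agent.Lib.Helper74.MG
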